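import Groth.Agent.Lefpen.H332.Jacobson
import Groth.Agent.Models.H43.PCurv
import Mathlib.NumberTheory.Wilson
import Mathlib.Algebra.Polynomial.Div
import Mathlib.RingTheory.Polynomial.Basic
import Mathlib.RingTheory.TensorProduct.IsBaseChangeFree
import Mathlib.RingTheory.IsTensorProduct

/-!
# Algebras `B' = B[x] / (x ^ p - t)` in characteristic `p`

* `IsK p β t x`: `x ^ p = β t` and `1, x, …, x ^ (p - 1)` is a basis of `B'` over `β : B → B'`.
* `IsK.D`: the `B`-derivation with `D x = 1`; `IsK.psi b = D ^ (p - 1) b + b ^ p`, an additive map `B' → B`.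
* `IsK.exists_of_D_eq_zero`: `D b = 0` implies `b ∈ B`; `IsK.psi_dlog`: `psi (D u / u) = 0`;
  `IsK.exists_dlog`: `psi a = 0` implies that `a` is locally of the form `D u / u`.
-/

set_option autoImplicit false

noncomputable section

namespace K230.PsiAlg

open Polynomial Finset Groth.Agent.Lefpen.H332.Jacobson

/-- `B'` is free over `B` on `1, x, …, x ^ (p - 1)` and `x ^ p = t`. -/
structure IsK (p : ℕ) {B B' : Type*} [CommRing B] [CommRing B'] (β : B →+* B') (t : B) (x : B') : Prop where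
  pow : x ^ p = β t
  bij : Function.Bijective (fun a : Fin p → B => ∑ i, β (a i) * x ^ (i : ℕ))

theorem pow_char_add {A : Type*} [CommRing A] {p : ℕ} [hp : Fact p.Prime] (h : (p : A) = 0) (x y : A) :
    (x + y) ^ p = x ^ p + y ^ p := by
  rcases subsingleton_or_nontrivial A with h1 | h1
  · exact Subsingleton.elim _ _
  · have : CharP A p := (CharP.charP_iff_prime_eq_zero hp.out).2 h
    exact _root_.add_pow_char x y p

theorem pow_char_sub {A : Type*} [CommRing A] {p : ℕ} [hp : Fact p.Prime] (h : (p : A) = 0) (x y : A) :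
    (x - y) ^ p = x ^ p - y ^ p := by
  rcases subsingleton_or_nontrivial A with h1 | h1
  · exact Subsingleton.elim _ _
  · have : CharP A p := (CharP.charP_iff_prime_eq_zero hp.out).2 h
    exact sub_pow_char x y

theorem pow_char_sum {A ι : Type*} [CommRing A] {p : ℕ} [hp : Fact p.Prime] (h : (p : A) = 0) (s : Finset ι)
    (f : ι → A) : (∑ i ∈ s, f i) ^ p = ∑ i ∈ s, f i ^ p := by
  classical
  induction s using Finset.induction_on with
  | empty => simp [hp.out.ne_zero]
  | insert i s hi ih => rw [sum_insert hi, sum_insert hi, pow_char_add h, ih]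

theorem fact_pred {A : Type*} [CommRing A] {p : ℕ} [hp : Fact p.Prime] (h : (p : A) = 0) :
    ((p - 1).factorial : A) = -1 := by
  have h1 : ((((p - 1).factorial + 1 : ℕ)) : ZMod p) = 0 := by
    rw [Nat.cast_add, ZMod.wilsons_lemma]
    simp
  obtain ⟨k, hk⟩ := (ZMod.natCast_eq_zero_iff _ _).1 h1
  have h2 := congrArg (fun n : ℕ => (n : A)) hk
  simp only [Nat.cast_add, Nat.cast_one, Nat.cast_mul, h, zero_mul] at h2
  exact eq_neg_of_add_eq_zero_left h2

namespace IsK

variable {p : ℕ} {B B' : Type*} [CommRing B] [CommRing B'] {β : B →+* B'} {t : B} {x : B'}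
  (h : IsK p β t x)

/-- Coordinates. -/
def cf (b : B') : Fin p → B := (Equiv.ofBijective _ h.bij).symm b

theorem sum_cf (b : B') : ∑ i, β (h.cf b i) * x ^ (i : ℕ) = b :=
  (Equiv.ofBijective _ h.bij).apply_symm_apply b

theorem cf_eq {b : B'} {a : Fin p → B} (ha : ∑ i, β (a i) * x ^ (i : ℕ) = b) : h.cf b = a :=
  h.bij.1 ((h.sum_cf b).trans ha.symm)

theorem cf_sum (a : Fin p → B) : h.cf (∑ i, β (a i) * x ^ (i : ℕ)) = a := h.cf_eq rfl

/-- Evaluation of polynomials. -/
def φ (_ : IsK p β t x) : B[X] →+* B' := eval₂RingHom β x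

theorem φ_C (b : B) : h.φ (C b) = β b := eval₂_C _ _

theorem φ_X : h.φ X = x := eval₂_X _ _

/-- A polynomial with given value. -/
def pol (b : B') : B[X] := ∑ i : Fin p, C (h.cf b i) * X ^ (i : ℕ)

theorem φ_pol (b : B') : h.φ (h.pol b) = b := by
  rw [pol, map_sum]
  refine Eq.trans (sum_congr rfl fun i _ => ?_) (h.sum_cf b)
  rw [map_mul, map_pow, h.φ_C, h.φ_X]

variable [hp : Fact p.Prime]

omit hp in
theorem φ_gen : h.φ (X ^ p - C t) = 0 := by
  rw [map_sub, map_pow, h.φ_X, h.φ_C, h.pow, sub_self]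

theorem exists_of_φ_eq_zero (f : B[X]) (hf : h.φ f = 0) : ∃ q, f = (X ^ p - C t) * q := by
  rcases subsingleton_or_nontrivial B with hB | hB
  · exact ⟨0, Subsingleton.elim _ _⟩
  have hm : (X ^ p - C t : B[X]).Monic := monic_X_pow_sub_C _ hp.out.ne_zero
  refine ⟨f /ₘ (X ^ p - C t), ?_⟩
  have h1 := modByMonic_add_div f (X ^ p - C t)
  suffices f %ₘ (X ^ p - C t) = 0 by
    rw [this, zero_add] at h1
    exact h1.symm
  set r := f %ₘ (X ^ p - C t) with hr
  have hdeg : r.natDegree < p := by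
    have h2 := natDegree_modByMonic_lt f hm (fun hc => by
      have h3 := congrArg natDegree hc
      rw [natDegree_X_pow_sub_C, natDegree_one] at h3
      exact hp.out.ne_zero h3)
    rwa [natDegree_X_pow_sub_C] at h2
  have h0 : h.φ r = 0 := by
    have h2 := congrArg h.φ h1
    rw [map_add, map_mul, h.φ_gen, zero_mul, add_zero, hf] at h2
    exact h2
  have h2 : r = ∑ i ∈ range p, C (r.coeff i) * X ^ i := as_sum_range_C_mul_X_pow' r hdeg
  have h3 : ∑ i : Fin p, β (r.coeff i) * x ^ (i : ℕ) = 0 := by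
    rw [Fin.sum_univ_eq_sum_range (fun i => β (r.coeff i) * x ^ i) p, ← h0]
    conv_rhs => rw [h2]
    rw [map_sum]
    refine sum_congr rfl fun i _ => ?_
    rw [map_mul, map_pow, h.φ_C, h.φ_X]
  have h4 : (fun i : Fin p => r.coeff (i : ℕ)) = fun _ => 0 := by
    apply h.bij.1
    refine h3.trans ?_
    simp
  rw [h2]
  refine sum_eq_zero fun i hi => ?_
  rw [show r.coeff i = 0 from congrFun h4 ⟨i, mem_range.1 hi⟩, C_0, zero_mul]

include h in
theorem β_injective : Function.Injective β := by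
  intro a b hab
  have h1 : (fun i : Fin p => if (i : ℕ) = 0 then a else 0) = fun i : Fin p => if (i : ℕ) = 0 then b else 0 := by
    apply h.bij.1
    refine sum_congr rfl fun i _ => ?_
    dsimp only
    split_ifs with hi
    · rw [hab]
    · rfl
  exact congrFun h1 ⟨0, hp.out.pos⟩

section D

variable (h0 : (p : B) = 0)

include h0

theorem derivative_congr {f g : B[X]} (hfg : h.φ f = h.φ g) : h.φ (derivative f) = h.φ (derivative g) := by
  obtain ⟨q, hq⟩ := h.exists_of_φ_eq_zero (f - g) (by rw [map_sub, hfg, sub_self])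
  have h1 := congrArg (fun f => h.φ (derivative f)) hq
  have h2 : derivative (X ^ p - C t : B[X]) = 0 := by
    rw [derivative_sub, derivative_X_pow, derivative_C, h0, C_0, zero_mul, sub_zero]
  rw [derivative_sub] at h1
  simp only [derivative_mul, h2, zero_mul, zero_add, map_mul, map_sub, map_pow, h.φ_X, h.φ_C,
    h.pow, sub_self] at h1
  exact sub_eq_zero.1 h1

/-- The derivation with `D x = 1`. -/
def D : Derivation ℤ B' B' :=
  Derivation.mk' (AddMonoidHom.mk' (fun b => h.φ (derivative (h.pol b))) (fun a b => by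
      rw [← map_add, ← derivative_add]
      exact h.derivative_congr h0 (by rw [map_add, h.φ_pol, h.φ_pol, h.φ_pol]))).toIntLinearMap
    (fun a b => by
      change h.φ (derivative (h.pol (a * b))) = a * h.φ (derivative (h.pol b)) + b * h.φ (derivative (h.pol a))
      have h1 : h.φ (derivative (h.pol (a * b))) = h.φ (derivative (h.pol a * h.pol b)) :=
        h.derivative_congr h0 (by rw [map_mul, h.φ_pol, h.φ_pol, h.φ_pol])
      rw [h1, derivative_mul, map_add, map_mul, map_mul, h.φ_pol, h.φ_pol]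
      ring)

theorem D_φ (f : B[X]) : h.D h0 (h.φ f) = h.φ (derivative f) :=
  h.derivative_congr h0 (h.φ_pol _)

theorem D_β (b : B) : h.D h0 (β b) = 0 := by
  rw [← h.φ_C, D_φ, derivative_C, map_zero]

theorem D_x : h.D h0 x = 1 := by
  have h1 := h.D_φ h0 X
  rwa [h.φ_X, derivative_X, map_one] at h1

theorem iter_D_φ (n : ℕ) (f : B[X]) : (h.D h0)^[n] (h.φ f) = h.φ (derivative^[n] f) := by
  induction n with
  | zero => rfl
  | succ n ih => rw [Function.iterate_succ_apply', ih, D_φ, Function.iterate_succ_apply']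

omit hp h h0 in
theorem p_eq_zero' (β : B →+* B') (h0 : (p : B) = 0) : (p : B') = 0 := by
  rw [← map_natCast β, h0, map_zero]

/-- The last index. -/
def last (p : ℕ) [hp : Fact p.Prime] : Fin p := ⟨p - 1, Nat.sub_lt hp.out.pos one_pos⟩

theorem iter_D_pred (b : B') : (h.D h0)^[p - 1] b = - β (h.cf b (last p)) := by
  have h1 : (h.D h0)^[p - 1] b = (h.D h0)^[p - 1] (h.φ (h.pol b)) := by rw [h.φ_pol]
  rw [h1, iter_D_φ, pol, iterate_derivative_sum, map_sum]
  rw [Finset.sum_eq_single (last p)]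
  · rw [iterate_derivative_C_mul, iterate_derivative_X_pow_eq_natCast_mul]
    change h.φ (C _ * (((((p - 1).descFactorial (p - 1) : ℕ)) : B[X]) * X ^ ((p - 1) - (p - 1)))) = _
    rw [Nat.descFactorial_self, Nat.sub_self, pow_zero, mul_one, map_mul, h.φ_C, map_natCast,
      fact_pred (p_eq_zero' β h0), mul_neg, mul_one]
  · intro i _ hi
    rw [iterate_derivative_C_mul, iterate_derivative_X_pow_eq_natCast_mul]
    have h2 : (i : ℕ) < p - 1 := by
      have h3 := i.2
      have h4 : (i : ℕ) ≠ p - 1 := fun h5 => hi (Fin.ext h5)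
      omega
    rw [Nat.descFactorial_eq_zero_iff_lt.2 h2, Nat.cast_zero, zero_mul, mul_zero, map_zero]
  · intro hi
    exact absurd (mem_univ _) hi

theorem iter_D_p (b : B') : (h.D h0)^[p] b = 0 := by
  have h1 : (h.D h0)^[p] b = (h.D h0)^[(p - 1) + 1] b := by rw [Nat.sub_add_cancel hp.out.pos]
  rw [h1, Function.iterate_succ_apply', iter_D_pred, Derivation.map_neg, D_β, neg_zero]

theorem op_pow_p : op (h.D h0) ^ p = 0 := by
  ext b
  rw [op_pow_apply, iter_D_p]
  rfl

/-- `D ^ (p - 1) b + b ^ p`, as an element of `B`. -/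
def psi (h : IsK p β t x) (b : B') : B := ∑ i, h.cf b i ^ p * t ^ (i : ℕ) - h.cf b (last p)

theorem β_psi (b : B') : β (h.psi b) = (h.D h0)^[p - 1] b + b ^ p := by
  rw [iter_D_pred, psi, map_sub, map_sum]
  have h1 : b ^ p = ∑ i, β (h.cf b i ^ p * t ^ (i : ℕ)) := by
    conv_lhs => rw [← h.sum_cf b]
    rw [pow_char_sum (p_eq_zero' β h0)]
    refine sum_congr rfl fun i _ => ?_
    rw [mul_pow, map_mul, map_pow, map_pow, ← h.pow, ← pow_mul, ← pow_mul, mul_comm (i : ℕ) p]
  rw [h1]
  ring

theorem psi_add (a b : B') : h.psi (a + b) = h.psi a + h.psi b := by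
  apply h.β_injective
  rw [map_add, h.β_psi h0, h.β_psi h0, h.β_psi h0, pow_char_add (p_eq_zero' β h0)]
  have h1 : (h.D h0)^[p - 1] (a + b) = (h.D h0)^[p - 1] a + (h.D h0)^[p - 1] b := by
    rw [← op_pow_apply, map_add, op_pow_apply, op_pow_apply]
  rw [h1]
  ring

theorem exists_of_D_eq_zero {b : B'} (hb : h.D h0 b = 0) : ∃ a, β a = b := by
  refine ⟨h.cf (x ^ (p - 1) * b) (last p), ?_⟩
  have h1 : ∀ (n : ℕ) (c : B'), (h.D h0)^[n] (c * b) = (h.D h0)^[n] c * b := by
    intro n
    induction n with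
    | zero => intro c; rfl
    | succ n ih =>
      intro c
      rw [Function.iterate_succ_apply, Function.iterate_succ_apply, Derivation.leibniz, hb, smul_zero, zero_add,
        smul_eq_mul, mul_comm b, ih]
  have h2 := h1 (p - 1) (x ^ (p - 1))
  have h3 : (h.D h0)^[p - 1] (x ^ (p - 1)) = -1 := by
    have h4 := h.iter_D_φ h0 (p - 1) (X ^ (p - 1))
    rwa [map_pow, h.φ_X, iterate_derivative_X_pow_eq_natCast_mul, Nat.descFactorial_self, Nat.sub_self,
      pow_zero, mul_one, map_natCast, fact_pred (p_eq_zero' β h0)] at h4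
  rw [h3, iter_D_pred, neg_mul, one_mul] at h2
  exact neg_injective h2

theorem iter_add_pow_eq_zero {u v : B'} (huv : u * v = 1) :
    (h.D h0)^[p - 1] (h.D h0 u * v) + (h.D h0 u * v) ^ p = 0 := by
  have h1 : op (h.D h0) + mu (h.D h0 u * v) = mu v * op (h.D h0) * mu u := by
    ext b
    simp only [LinearMap.add_apply, op_apply, mu_apply, Module.End.mul_apply, Derivation.leibniz, smul_eq_mul]
    linear_combination (- h.D h0 b) * huv
  have h2 : ∀ n, (mu v * op (h.D h0) * mu u) ^ n * mu v = mu v * op (h.D h0) ^ n := by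
    intro n
    induction n with
    | zero => simp
    | succ n ih =>
      have h3 : mu u * mu v = 1 := by
        ext b
        simp only [Module.End.mul_apply, mu_apply, Module.End.one_apply]
        linear_combination b * huv
      rw [pow_succ', mul_assoc, ih, mul_assoc, mul_assoc, ← mul_assoc (mu u), h3, one_mul, pow_succ']
  have h4 := op_add_mu_pow p (p_eq_zero' β h0) (h.D h0) (h.D h0 u * v)
  rw [h1, op_pow_p, zero_add] at h4
  have h5 := h2 p
  rw [op_pow_p, mul_zero, h4] at h5
  have h6 := congrArg (fun T : Module.End ℤ B' => T u) h5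
  simp only [Module.End.mul_apply, mu_apply, LinearMap.zero_apply] at h6
  linear_combination h6 - ((h.D h0)^[p - 1] (h.D h0 u * v) + (h.D h0 u * v) ^ p) * huv

theorem psi_dlog {u v : B'} (huv : u * v = 1) : h.psi (h.D h0 u * v) = 0 := by
  apply h.β_injective
  rw [h.β_psi h0, iter_add_pow_eq_zero h h0 huv, map_zero]

omit h0 in
theorem psi_sum (h : IsK p β t x) (a : Fin p → B) :
    h.psi (∑ i, β (a i) * x ^ (i : ℕ)) = ∑ i, a i ^ p * t ^ (i : ℕ) - a (last p) := by
  rw [psi, h.cf_sum]

/-- Over a base containing a `p`-th root of `t`, `psi` has a section. -/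
theorem psi_section (s : B) (hs : s ^ p = t) (c : B) :
    h.psi (∑ i : Fin p, β (-(c * s ^ (p - 1 - (i : ℕ)))) * x ^ (i : ℕ)) = c := by
  rw [h.psi_sum]
  have h1 : ∀ i : Fin p, (-(c * s ^ (p - 1 - (i : ℕ)))) ^ p * t ^ (i : ℕ) = -(c ^ p * t ^ (p - 1)) := fun i => by
    have h2 : (-(c * s ^ (p - 1 - (i : ℕ)))) ^ p = -(c * s ^ (p - 1 - (i : ℕ))) ^ p := by
      have h3 := pow_char_sub h0 0 (c * s ^ (p - 1 - (i : ℕ)))
      rwa [zero_sub, zero_pow hp.out.ne_zero, zero_sub] at h3
    have h4 : t ^ (p - 1) = t ^ (p - 1 - (i : ℕ)) * t ^ (i : ℕ) := by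
      rw [← pow_add]
      congr 1
      have := i.2
      omega
    rw [h2, mul_pow, ← pow_mul, mul_comm (p - 1 - (i : ℕ)) p, pow_mul, hs, h4]
    ring
  rw [sum_congr rfl fun i _ => h1 i, sum_const, card_univ, Fintype.card_fin, nsmul_eq_mul, h0, zero_mul, zero_sub,
    neg_neg]
  change c * s ^ (p - 1 - (p - 1)) = c
  rw [Nat.sub_self, pow_zero, mul_one]

include h in
/-- The `p`-th power, as a ring homomorphism `B' → B`. -/
theorem exists_rho : ∃ ρ : B' →+* B, ∀ b, β (ρ b) = b ^ p := by
  have h1 : ∀ b : B', ∃ a : B, β a = b ^ p := fun b => by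
    refine ⟨h.psi b + h.cf b (last p), ?_⟩
    rw [map_add, h.β_psi h0, iter_D_pred]
    ring
  choose ρ hρ using h1
  refine ⟨{ toFun := ρ, map_one' := ?_, map_mul' := ?_, map_zero' := ?_, map_add' := ?_ }, hρ⟩
  · apply h.β_injective
    rw [hρ, one_pow, map_one]
  · intro a b
    apply h.β_injective
    rw [hρ, map_mul, hρ, hρ, mul_pow]
  · apply h.β_injective
    rw [hρ, map_zero, zero_pow hp.out.ne_zero]
  · intro a b
    apply h.β_injective
    rw [hρ, map_add, hρ, hρ, pow_char_add (p_eq_zero' β h0)]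

/-- `psi a = 0` implies that `a` is locally on `Spec B` a logarithmic derivative. -/
theorem exists_dlog {a : B'} (ha : h.psi a = 0) (P : Ideal B) [hP : P.IsPrime] :
    ∃ (g : B') (c : B), c ∉ P ∧ g ^ p = β c ∧ h.D h0 g = a * g := by
  obtain ⟨ρ, hρ⟩ := h.exists_rho h0
  obtain ⟨g, hg, hg'⟩ := Groth.Agent.Models.H43.PCurv.exists_solution (ι := Unit) (B := B') hp.out
    (p_eq_zero' β h0) (fun _ => h.D h0) (fun _ => x) (fun _ => h.D_x h0) (fun _ _ hij => absurd rfl hij)
    (fun _ _ _ => rfl) (fun _ b => h.iter_D_p h0 b) (fun _ => a) (fun _ _ => rfl)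
    (fun _ => by rw [← h.β_psi h0, ha, map_zero]) (P.comap ρ) (Ideal.comap_ne_top _ hP.ne_top)
  exact ⟨g, ρ g, hg, (hρ g).symm, hg' ()⟩

end D

section Nat

variable {B₁ B₁' : Type*} [CommRing B₁] [CommRing B₁'] {β₁ : B₁ →+* B₁'} {t₁ : B₁} {x₁ : B₁'} (h₁ : IsK p β₁ t₁ x₁)
  (γ : B →+* B₁) (γ' : B' →+* B₁') (hγ : ∀ b, γ' (β b) = β₁ (γ b)) (ht : γ t = t₁) (hx : γ' x = x₁)

include hγ hx

omit hp in
theorem cf_map (b : B') (i : Fin p) : h₁.cf (γ' b) i = γ (h.cf b i) := by
  have h2 : h₁.cf (γ' b) = fun i => γ (h.cf b i) := by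
    apply h₁.cf_eq
    conv_rhs => rw [← h.sum_cf b]
    rw [map_sum]
    refine sum_congr rfl fun i _ => ?_
    rw [map_mul, map_pow, hγ, hx]
  exact congrFun h2 i

include ht in
theorem psi_map (b : B') : h₁.psi (γ' b) = γ (h.psi b) := by
  simp only [psi, h.cf_map h₁ γ γ' hγ hx, map_sub, map_sum, map_mul, map_pow, ht]

theorem D_map (h0 : (p : B) = 0) (h0' : (p : B₁) = 0) (b : B') : h₁.D h0' (γ' b) = γ' (h.D h0 b) := by
  have h2 : ∀ f : B[X], γ' (h.φ f) = h₁.φ (f.map γ) := fun f => by
    change γ' (eval₂ β x f) = eval₂ β₁ x₁ (f.map γ)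
    rw [hom_eval₂, eval₂_map, hx]
    congr 1
    ext b
    exact hγ b
  have h3 : b = h.φ (h.pol b) := (h.φ_pol b).symm
  rw [h3, D_φ, h2, h2, D_φ, derivative_map]

end Nat

end IsK

section Pushout

variable {p : ℕ} {R S B B' : Type*} [CommRing R] [CommRing S] [CommRing B] [CommRing B'] [Algebra R S] [Algebra R B]
  [Algebra R B'] [Algebra S B'] [Algebra B B'] [IsScalarTower R S B'] [IsScalarTower R B B']

/-- Base change. -/
theorem IsK.of_isPushout {t : R} {x : S} (h : IsK p (algebraMap R S) t x) (hP : Algebra.IsPushout R B S B') :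
    IsK p (algebraMap B B') (algebraMap R B t) (algebraMap S B' x) := by
  let L : (Fin p → R) ≃ₗ[R] S := LinearEquiv.ofBijective
    { toFun := fun a => ∑ i : Fin p, algebraMap R S (a i) * x ^ (i : ℕ)
      map_add' := fun a b => by simp only [Pi.add_apply, map_add, add_mul, sum_add_distrib]
      map_smul' := fun c a => by
        simp only [Pi.smul_apply, smul_eq_mul, map_mul, RingHom.id_apply, Algebra.smul_def, mul_assoc, mul_sum] } h.bij
  let b : Module.Basis (Fin p) R S := Module.Basis.ofEquivFun L.symm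
  have hb : ∀ i, b i = x ^ (i : ℕ) := fun i => by
    classical
    rw [Module.Basis.coe_ofEquivFun]
    change L (Function.update (0 : Fin p → R) i 1) = _
    change ∑ j, algebraMap R S (Function.update (0 : Fin p → R) i 1 j) * x ^ (j : ℕ) = _
    rw [Finset.sum_eq_single i]
    · rw [Function.update_self, map_one, one_mul]
    · intro j _ hj
      rw [Function.update_of_ne hj, Pi.zero_apply, map_zero, zero_mul]
    · intro hi
      exact absurd (mem_univ _) hi
  have hbc : IsBaseChange B (IsScalarTower.toAlgHom R S B').toLinearMap := hP.out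
  let c := hbc.basis b
  have hc : ∀ i, c i = algebraMap S B' x ^ (i : ℕ) := fun i => by
    rw [hbc.basis_apply, hb, AlgHom.toLinearMap_apply, map_pow]
    rfl
  constructor
  · rw [← map_pow, h.pow, ← IsScalarTower.algebraMap_apply, ← IsScalarTower.algebraMap_apply]
  · have h1 : (fun a : Fin p → B => ∑ i, algebraMap B B' (a i) * algebraMap S B' x ^ (i : ℕ)) =
        c.equivFun.symm := by
      funext a
      rw [Module.Basis.equivFun_symm_apply]
      refine sum_congr rfl fun i _ => ?_
      rw [hc, Algebra.smul_def]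
    rw [h1]
    exact c.equivFun.symm.bijective

end Pushout

end K230.PsiAlg
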