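import Groth.Agent.GaDual.K230.PsiSh
import Groth.Agent.GaDual.K771.RedCoh
import Groth.Agent.GaDual.K771.FppfGa
import Groth.Agent.GaDual.K771.FppfGm
import Groth.Agent.GaDual.K771.ZarH90
import Groth.Agent.GaDual.K771.PicLift
import Groth.Agent.TateGlob.K828.BigCoh

/-!
# Cohomology of `f_* f⁻¹ F` and the map `kappa : G_a(T) ⟶ H²(T, G_m)`
-/

set_option autoImplicit false
universe u
open CategoryTheory CategoryTheory.Limits AlgebraicGeometry Opposite

noncomputable section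

namespace K230.PsiCoh

open Groth.Agent.Etdl.H432.Sec Groth.Agent.Etdl.H494 K771.Pts K771.Aff K771.AffLocal K771.AffHom K771.RedExt
  K230.PsiAlg K230.PsiSh K828

section Ga

variable {X : Scheme.{u}}

/-- Sections of `G_a`. -/
def gaEquiv (X : Scheme.{u}) (U : Over X) : Γs (Ga X) U ≃+ O U where
  toFun := ga
  invFun := gas
  left_inv := gas_ga
  right_inv := ga_gas
  map_add' := ga_add

/-- The restriction of `G_a` to a slice. -/
def pullIsoGa {Y : Scheme.{u}} (f : Y ⟶ X) :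
    (BigSite.pullBig Scheme.fppfPrecoverage f AddCommGrpCat.{u + 1}).obj (Ga X) ≅ Ga Y :=
  (fullyFaithfulSheafToPresheaf _ _).preimageIso (NatIso.ofComponents
    (fun U => ((gaEquiv X ((Over.map f).obj U.unop)).trans (gaEquiv Y U.unop).symm).toAddCommGrpIso)
    (fun {U V} k => by
      ext s
      apply ga_injective
      change ga (gas _) = ga (r (Ga Y) k.unop (gas _))
      rw [ga_r, ga_gas, ga_gas]
      exact ga_r ((Over.map f).map k.unop) s))

theorem subsingleton_HU_Ga (T : Over X) [IsAffine T.left] :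
    Subsingleton (BigSite.HU Scheme.fppfPrecoverage (Ga X) 1 T) := by
  have h1 : Subsingleton (EtFppf.HF T.left (Ga T.left) 1) := K771.FppfGa.subsingleton T.left 1 one_pos
  exact K771.HExt.sub_of_iso_right (pullIsoGa T.hom).symm 1

/-- Sections of a `G_a`-quotient over an affine object lift. -/
theorem exists_lift_Ga {A : ShortComplex (EtFppf.AbF X)} (hA : A.ShortExact) (e : A.X₁ ≅ Ga X) (T : Over X)
    [IsAffine T.left] (c : Γs A.X₃ T) : ∃ i : Γs A.X₂ T, m A.g T i = c := by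
  let 𝓗 := K828.BigCoh.bigCoh Scheme.fppfPrecoverage X
  have h1 : 𝓗.del hA (𝓗.sec.symm c) = 0 := by
    have h2 : 𝓗.map e.hom (𝓗.del hA (𝓗.sec.symm c)) = 0 := by
      have h3 := subsingleton_HU_Ga T
      exact h3.elim _ _
    have h4 := congrArg (𝓗.map e.inv) h2
    rwa [← 𝓗.map_comp, e.hom_inv_id, 𝓗.map_id, map_zero] at h4
  obtain ⟨y, hy⟩ := 𝓗.exact₃ hA _ h1
  refine ⟨𝓗.sec y, ?_⟩
  change A.g.hom.app (op T) (𝓗.sec y) = c
  rw [← 𝓗.sec_map, hy, AddEquiv.apply_symm_apply]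

end Ga

section W

variable {X Y : Scheme.{u}} (f : Y ⟶ X)

instance preservesFiniteLimits_W : PreservesFiniteLimits (W f) := K771.RedCoh.preservesFiniteLimits_RR f

instance preservesZeroMorphisms_W : (W f).PreservesZeroMorphisms :=
  inferInstanceAs (K771.RedCoh.RR f).PreservesZeroMorphisms

theorem injective_W (I : EtFppf.AbF X) [Injective I] : Injective ((W f).obj I) := by
  have h1 : Injective ((BigSite.pullBig Scheme.fppfPrecoverage f AddCommGrpCat.{u + 1}).obj I) :=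
    K299.PullInj.injective_pullBig _ f I
  have h2 : PreservesFiniteLimits (BigSite.pullBig (Scheme.fppfPrecoverage) f AddCommGrpCat.{u + 1}) :=
    K299.PullInj.preservesFiniteLimits_pullBig _ f
  exact Injective.injective_of_adjoint (BigSite.bigAdj Scheme.fppfPrecoverage f AddCommGrpCat.{u + 1}) _

variable (A : ShortComplex (EtFppf.AbF X))

/-- `0 ⟶ W A₁ ⟶ W A₂ ⟶ coker ⟶ 0`. -/
abbrev cokS : ShortComplex (EtFppf.AbF X) :=
  ShortComplex.mk ((W f).map A.f) (cokernel.π ((W f).map A.f)) (cokernel.condition _)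

/-- `coker ⟶ W A₃`. -/
def cokw : (cokS f A).X₃ ⟶ (W f).obj A.X₃ :=
  cokernel.desc ((W f).map A.f) ((W f).map A.g) (by rw [← Functor.map_comp, A.zero, Functor.map_zero])

theorem g_cokw : (cokS f A).g ≫ cokw f A = (W f).map A.g := cokernel.π_desc _ _ _

variable {A} (hA : A.ShortExact)

include hA

theorem mono_Wf : Mono ((W f).map A.f) := by
  have := hA.mono_f
  infer_instance

theorem exact_W : (A.map (W f)).Exact := by
  have := hA.mono_f
  exact hA.exact.map_of_mono_of_preservesKernel (W f) inferInstance inferInstance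

theorem cokS_shortExact : (cokS f A).ShortExact where
  exact := ShortComplex.exact_cokernel _
  mono_f := mono_Wf f hA
  epi_g := inferInstanceAs (Epi (cokernel.π _))

theorem mono_cokw : Mono (cokw f A) := (exact_W f hA).mono_cokernelDesc

theorem cokw_injective (T : Over X) : Function.Injective (m (cokw f A) T) :=
  have := mono_cokw f hA
  K731.Basic.injective_of_mono (K := Scheme.fppfPrecoverage) (cokw f A) (op T)

/-- `H¹(T, W A₁) = 0` if sections of `A₃` over `T ×_X Y` lift. -/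
theorem eq_zero_of_lift (𝓗 : CohT Scheme.fppfPrecoverage X) [Injective A.X₂] (T : Over X)
    (hl : ∀ c : Γs A.X₃ (wo f T), ∃ i : Γs A.X₂ (wo f T), m A.g _ i = c) (x : 𝓗.H ((W f).obj A.X₁) 1 T) : x = 0 := by
  have hI : Injective ((W f).obj A.X₂) := injective_W f A.X₂
  have hB := cokS_shortExact f hA
  obtain ⟨z, hz⟩ := 𝓗.exact₁ hB (n := 0) (T := T) x (𝓗.inj ((W f).obj A.X₂) _)
  obtain ⟨i, hi⟩ := hl (wE f A.X₃ T (m (cokw f A) T (𝓗.sec z)))
  have h1 : m (cokS f A).g T ((wE f A.X₂ T).symm i) = 𝓗.sec z := by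
    apply cokw_injective f hA
    rw [← m_comp, g_cokw]
    apply (wE f A.X₃ T).injective
    rw [wE_m, AddEquiv.apply_symm_apply, hi]
  have h2 : z = 𝓗.map (cokS f A).g (𝓗.sec.symm ((wE f A.X₂ T).symm i)) := by
    apply 𝓗.sec.injective
    rw [𝓗.sec_map, AddEquiv.apply_symm_apply]
    exact h1.symm
  rw [← hz, h2, 𝓗.del_map]

omit hA

theorem wE_cokw {A : ShortComplex (EtFppf.AbF X)} (T : Over X) (s : Γs A.X₂ (wo f T)) :
    wE f A.X₃ T (m (cokw f A) T (m (cokS f A).g T ((wE f A.X₂ T).symm s))) = m A.g (wo f T) s := by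
  rw [← m_comp, g_cokw, wE_m, AddEquiv.apply_symm_apply]

/-- A class of degree two which dies on `T ×_X Y` dies in `H²(T, f_* f⁻¹ G)`. -/
theorem map_η_eq_zero (𝓗 : CohT Scheme.fppfPrecoverage X) {G I Q J R : EtFppf.AbF X} {a : G ⟶ I} {b : I ⟶ Q}
    {w₁ : a ≫ b = 0} (hA : (ShortComplex.mk a b w₁).ShortExact)
    (hW : ((ShortComplex.mk a b w₁).map (W f)).ShortExact) {c : Q ⟶ J} {d : J ⟶ R} {w₂ : c ≫ d = 0}
    (hB : (ShortComplex.mk c d w₂).ShortExact) [Injective I] [Injective J] {T : Over X} (u : 𝓗.H G 2 T)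
    (hu : 𝓗.res (pr f T) u = 0) : 𝓗.map (η f G) u = 0 := by
  obtain ⟨v, rfl⟩ : ∃ v : 𝓗.H Q 1 T, 𝓗.del hA v = u := 𝓗.exact₁ hA u (𝓗.inj I _)
  obtain ⟨z, rfl⟩ : ∃ z : 𝓗.H R 0 T, 𝓗.del hB z = v := 𝓗.exact₁ hB v (𝓗.inj J _)
  have h1 : 𝓗.del hA (𝓗.del hB (𝓗.res (pr f T) z)) = 0 := by
    rw [𝓗.del_res, 𝓗.del_res]
    exact hu
  obtain ⟨y, hy⟩ : ∃ y : 𝓗.H I 1 (wo f T), 𝓗.map b y = 𝓗.del hB (𝓗.res (pr f T) z) := 𝓗.exact₃ hA _ h1
  have h2 : 𝓗.del hB (𝓗.res (pr f T) z) = 0 := by rw [← hy, 𝓗.inj I y, map_zero]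
  obtain ⟨j, hj⟩ : ∃ j : 𝓗.H J 0 (wo f T), 𝓗.map d j = 𝓗.res (pr f T) z := 𝓗.exact₃ hB _ h2
  have hB' := cokS_shortExact f hB
  have hepi : Epi d := hB.epi_g
  let e : R ⟶ (cokS f (ShortComplex.mk c d w₂)).X₃ := hB.exact.desc
    (η f J ≫ (cokS f (ShortComplex.mk c d w₂)).g) (by
      change c ≫ η f J ≫ cokernel.π ((W f).map c) = 0
      rw [← Category.assoc, ← η_nat, Category.assoc, cokernel.condition, comp_zero])
  have he : d ≫ e = η f J ≫ (cokS f (ShortComplex.mk c d w₂)).g := hB.exact.g_desc _ _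
  have hew : e ≫ cokw f (ShortComplex.mk c d w₂) = η f R := by
    rw [← cancel_epi d, ← Category.assoc, he, Category.assoc, g_cokw, η_nat]
  let Φ : ShortComplex.mk c d w₂ ⟶ cokS f (ShortComplex.mk c d w₂) :=
    { τ₁ := η f Q
      τ₂ := η f J
      τ₃ := e
      comm₁₂ := η_nat f c
      comm₂₃ := he.symm }
  have h3 : 𝓗.map (η f Q) (𝓗.del hB z) = 𝓗.del hB' (𝓗.map e z) := (𝓗.del_nat hB hB' Φ z).symm
  have h4 : 𝓗.map e z = 𝓗.map (cokS f (ShortComplex.mk c d w₂)).g (𝓗.sec.symm ((wE f J T).symm (𝓗.sec j))) := by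
    apply 𝓗.sec.injective
    rw [𝓗.sec_map, 𝓗.sec_map, AddEquiv.apply_symm_apply]
    apply cokw_injective f hB T
    apply (wE f R T).injective
    change wE f R T (m (cokw f (ShortComplex.mk c d w₂)) T (m e T (𝓗.sec z))) =
      wE f R T (m (cokw f (ShortComplex.mk c d w₂)) T (m (cokS f (ShortComplex.mk c d w₂)).g T
        ((wE f J T).symm (𝓗.sec j))))
    rw [← m_comp, hew, wE_η]
    refine Eq.trans ?_ (wE_cokw (A := ShortComplex.mk c d w₂) f T (𝓗.sec j)).symm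
    change R.obj.map (pr f T).op (𝓗.sec z) = d.hom.app (op (wo f T)) (𝓗.sec j)
    rw [← 𝓗.sec_res, ← 𝓗.sec_map, hj]
  have h5 : 𝓗.map (η f Q) (𝓗.del hB z) = 0 := by
    rw [h3, h4]
    exact 𝓗.del_map hB' _
  let Ψ : ShortComplex.mk a b w₁ ⟶ (ShortComplex.mk a b w₁).map (W f) :=
    { τ₁ := η f G
      τ₂ := η f I
      τ₃ := η f Q
      comm₁₂ := η_nat f a
      comm₂₃ := η_nat f b }
  have h6 : 𝓗.del hW (𝓗.map (η f Q) (𝓗.del hB z)) = 𝓗.map (η f G) (𝓗.del hA (𝓗.del hB z)) :=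
    𝓗.del_nat hA hW Ψ (𝓗.del hB z)
  rw [← h6, h5]
  exact map_zero (𝓗.del hW)

end W

section Aff

variable {X Y : Scheme.{u}} (f : Y ⟶ X) [IsAffine X] [IsAffine Y] {p : ℕ} {t : Γ(X, ⊤)} {x : Γ(Y, ⊤)}
  (hK : IsK p f.appTop.hom t x) [hp : Fact p.Prime] (h0 : (p : Γ(X, ⊤)) = 0) [Surjective f]

include hK h0

omit [Surjective f] in
/-- Opens of `T ×_X Y` come from opens of `T`. -/
theorem exists_opn (T : Over X) [hT : IsAffine T.left] (y : T.left) (y' : (wo f T).left) (hy : (pr f T).left y' = y)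
    (U : (wo f T).left.Opens) (hU : y' ∈ U) :
    ∃ b : O T, y ∈ T.left.basicOpen b ∧ ∀ w : (wo f (opn T (T.left.basicOpen b))).left,
      (wm f (opnι T (T.left.basicOpen b))).left w ∈ U := by
  obtain ⟨g, hg, hyg⟩ := (isAffineOpen_top (wo f T).left).exists_basicOpen_le ⟨y', hU⟩ trivial
  change (wo f T).left.basicOpen g ≤ U at hg
  obtain ⟨ρ, hρ⟩ := (isK f hK T).exists_rho (p_eq_zero h0 T)
  have h1 : (pr f T).left ⁻¹ᵁ (T.left.basicOpen (ρ g)) = (wo f T).left.basicOpen g := by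
    have h2 : (pr f T).left ⁻¹ᵁ (T.left.basicOpen (ρ g)) = (wo f T).left.basicOpen ((pr f T).left.appTop.hom (ρ g)) :=
      Scheme.preimage_basicOpen_top (pr f T).left (ρ g)
    have h3 : (pr f T).left.appTop.hom (ρ g) = g ^ p := hρ g
    rw [h2, h3]
    exact Scheme.basicOpen_pow _ _ hp.out.pos
  refine ⟨ρ g, ?_, fun w => hg ?_⟩
  · have h2 : y' ∈ (pr f T).left ⁻¹ᵁ (T.left.basicOpen (ρ g)) := by
      rw [h1]; exact hyg
    rw [← hy]
    exact h2
  · rw [← h1]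
    change (pr f T).left ((wm f (opnι T (T.left.basicOpen (ρ g)))).left w) ∈ T.left.basicOpen (ρ g)
    have h2 := congrArg (fun k => k.left w) (pr_nat f (opnι T (T.left.basicOpen (ρ g))))
    rw [show (pr f T).left ((wm f (opnι T (T.left.basicOpen (ρ g)))).left w) = _ from h2]
    exact ((pr f (opn T (T.left.basicOpen (ρ g)))).left w).2

theorem epi_W {A : ShortComplex (EtFppf.AbF X)} (hA : A.ShortExact) (e : A.X₁ ≅ Gm X) : Epi ((W f).map A.g) := by
  refine epi_of_affine _ fun T hT c => ?_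
  have h1 : ∀ y : T.left, ∃ b : O T, y ∈ T.left.basicOpen b ∧
      ∃ a : Γs A.X₂ (wo f (opn T (T.left.basicOpen b))),
        m A.g _ a = r _ (wm f (opnι T (T.left.basicOpen b))) (wE f A.X₃ T c) := fun y => by
    have hs : Surjective (pullback.fst T.hom f) := inferInstance
    obtain ⟨y', hy'⟩ := hs.surj y
    obtain ⟨U, hU, a, ha⟩ := K771.ZarH90.exists_zar_lift hA e (wE f A.X₃ T c) y'
    obtain ⟨b, hb, hb'⟩ := exists_opn f hK h0 T y y' hy' U hU
    refine ⟨b, hb, r _ (opnLift (wm f (opnι T (T.left.basicOpen b))) U hb') a, ?_⟩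
    rw [m_r, ha, r_r, opnLift_opnι]
  choose b hb a ha using h1
  refine ⟨ULift.{u + 1} T.left, fun y => opn T (T.left.basicOpen (b y.down)), fun y => opnι T _,
    isCov_opn (fun y : ULift.{u + 1} T.left => T.left.basicOpen (b y.down)) fun y => ⟨⟨y⟩, hb y⟩, fun y =>
    ⟨(wE f A.X₂ _).symm (a y.down), ?_⟩⟩
  apply (wE f A.X₃ _).injective
  rw [wE_m, AddEquiv.apply_symm_apply, ha, wE_r]

theorem shortExact_W {A : ShortComplex (EtFppf.AbF X)} (hA : A.ShortExact) (e : A.X₁ ≅ Gm X) :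
    (A.map (W f)).ShortExact where
  exact := exact_W f hA
  mono_f := mono_Wf f hA
  epi_g := epi_W f hK h0 hA e

variable (𝓗 : CohT Scheme.fppfPrecoverage X)

omit hK h0 hp [Surjective f] in
/-- `H¹(T, f_* G_a) = 0` for affine `T`. -/
theorem eq_zero_W_Ga (T : Over X) [hT : IsAffine T.left] (x : 𝓗.H ((W f).obj (Ga X)) 1 T) : x = 0 := by
  have hA : (ShortComplex.mk (Injective.ι (Ga X)) (cokernel.π (Injective.ι (Ga X))) (cokernel.condition _)).ShortExact :=
    { exact := ShortComplex.exact_cokernel _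
      mono_f := inferInstanceAs (Mono (Injective.ι (Ga X)))
      epi_g := inferInstanceAs (Epi (cokernel.π (Injective.ι (Ga X)))) }
  have hI : Injective (Injective.under (Ga X)) := inferInstance
  exact eq_zero_of_lift (A := ShortComplex.mk (Injective.ι (Ga X)) (cokernel.π (Injective.ι (Ga X)))
    (cokernel.condition _)) f hA 𝓗 T (fun c => exists_lift_Ga hA (Iso.refl _) (wo f T) c) x

variable [Flat f] [LocallyOfFinitePresentation f]

/-- The composition of the connecting maps `G_a(T) ⟶ H¹(T, Q) ⟶ H²(T, G_m)`. -/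
def kap (T : Over X) : O T →+ 𝓗.H (Gm X) 2 T :=
  (𝓗.del (shortExact_S₁ f hK h0)).comp ((𝓗.del (shortExact_S₂ f hK h0)).comp
    (𝓗.sec.symm.toAddMonoidHom.comp (gaEquiv X T).symm.toAddMonoidHom))

theorem kap_apply (T : Over X) (c : O T) : kap f hK h0 𝓗 T c =
    𝓗.del (shortExact_S₁ f hK h0) (𝓗.del (shortExact_S₂ f hK h0) (𝓗.sec.symm (gas c))) := rfl

theorem kap_res {T T' : Over X} (g : T' ⟶ T) (c : O T) :
    𝓗.res g (kap f hK h0 𝓗 T c) = kap f hK h0 𝓗 T' (ro g c) := by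
  rw [kap_apply, kap_apply]
  refine (𝓗.del_res (shortExact_S₁ f hK h0) g _).symm.trans ?_
  congr 1
  refine (𝓗.del_res (shortExact_S₂ f hK h0) g _).symm.trans ?_
  congr 1
  apply 𝓗.sec.injective
  rw [𝓗.sec_res, AddEquiv.apply_symm_apply, AddEquiv.apply_symm_apply]
  exact r_gas g c

theorem kap_psi (T : Over X) [hT : IsAffine T.left] (b : O (wo f T)) : kap f hK h0 𝓗 T ((isK f hK T).psi b) = 0 := by
  have h1 : 𝓗.sec.symm (gas ((isK f hK T).psi b)) =
      𝓗.map (psiS f hK h0) (𝓗.sec.symm ((wE f (Ga X) T).symm (gas b))) := by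
    apply 𝓗.sec.injective
    rw [𝓗.sec_map, AddEquiv.apply_symm_apply, AddEquiv.apply_symm_apply]
    apply ga_injective
    change ga (gas _) = ga (m (psiS f hK h0) T ((wE f (Ga X) T).symm (gas b)))
    rw [ga_psiS, AddEquiv.apply_symm_apply, ga_gas, ga_gas]
  rw [kap_apply, h1]
  have h2 : 𝓗.del (shortExact_S₂ f hK h0) (𝓗.map (psiS f hK h0) (𝓗.sec.symm ((wE f (Ga X) T).symm (gas b)))) = 0 :=
    𝓗.del_map (shortExact_S₂ f hK h0) _
  rw [h2]
  exact map_zero (𝓗.del (shortExact_S₁ f hK h0))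

theorem exists_psi (T : Over X) [hT : IsAffine T.left] (hGm : ∀ x : 𝓗.H ((W f).obj (Gm X)) 1 T, x = 0) (c : O T)
    (hc : kap f hK h0 𝓗 T c = 0) : ∃ b : O (wo f T), (isK f hK T).psi b = c := by
  rw [kap_apply] at hc
  obtain ⟨y, hy⟩ : ∃ y : 𝓗.H ((W f).obj (Gm X)) 1 T, 𝓗.map (dlogK f hK h0) y =
    𝓗.del (shortExact_S₂ f hK h0) (𝓗.sec.symm (gas c)) := 𝓗.exact₃ (shortExact_S₁ f hK h0) _ hc
  have h1 : 𝓗.del (shortExact_S₂ f hK h0) (𝓗.sec.symm (gas c)) = 0 := by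
    rw [← hy, hGm y, map_zero]
  obtain ⟨z, hz⟩ : ∃ z : 𝓗.H ((W f).obj (Ga X)) 0 T, 𝓗.map (psiS f hK h0) z = 𝓗.sec.symm (gas c) :=
    𝓗.exact₃ (shortExact_S₂ f hK h0) _ h1
  refine ⟨ga (wE f (Ga X) T (𝓗.sec z)), ?_⟩
  rw [← ga_psiS f hK h0]
  change ga ((psiS f hK h0).hom.app (op T) (𝓗.sec z)) = c
  rw [← 𝓗.sec_map, hz, AddEquiv.apply_symm_apply, ga_gas]

theorem exists_kap (T : Over X) [hT : IsAffine T.left] (u : 𝓗.H (Gm X) 2 T) (hu : 𝓗.res (pr f T) u = 0) :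
    ∃ c, kap f hK h0 𝓗 T c = u := by
  have hA : (ShortComplex.mk (Injective.ι (Gm X)) (cokernel.π (Injective.ι (Gm X))) (cokernel.condition _)).ShortExact :=
    { exact := ShortComplex.exact_cokernel _
      mono_f := inferInstanceAs (Mono (Injective.ι (Gm X)))
      epi_g := inferInstanceAs (Epi (cokernel.π (Injective.ι (Gm X)))) }
  have hB : (ShortComplex.mk (Injective.ι (cokernel (Injective.ι (Gm X))))
      (cokernel.π (Injective.ι (cokernel (Injective.ι (Gm X))))) (cokernel.condition _)).ShortExact :=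
    { exact := ShortComplex.exact_cokernel _
      mono_f := inferInstanceAs (Mono (Injective.ι (cokernel (Injective.ι (Gm X)))))
      epi_g := inferInstanceAs (Epi (cokernel.π (Injective.ι (cokernel (Injective.ι (Gm X)))))) }
  have h1 : 𝓗.map (η f (Gm X)) u = 0 :=
    map_η_eq_zero f 𝓗 hA (shortExact_W f hK h0 hA (Iso.refl _)) hB u hu
  obtain ⟨q, rfl⟩ : ∃ q : 𝓗.H (kernel (psiS f hK h0)) 1 T, 𝓗.del (shortExact_S₁ f hK h0) q = u :=
    𝓗.exact₁ (shortExact_S₁ f hK h0) u h1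
  obtain ⟨z, rfl⟩ : ∃ z : 𝓗.H (Ga X) 0 T, 𝓗.del (shortExact_S₂ f hK h0) z = q :=
    𝓗.exact₁ (shortExact_S₂ f hK h0) q (eq_zero_W_Ga f 𝓗 T _)
  refine ⟨ga (𝓗.sec z), ?_⟩
  rw [kap_apply, gas_ga, AddEquiv.symm_apply_apply]

end Aff

end K230.PsiCoh
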