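import Groth.Agent.GaDual.K230.PsiLine
import Groth.Agent.GaDual.K770.PsiPrim
import Groth.Prelude.Def_Frob

/-!
# The map `kappa` for the absolute Frobenius
-/

set_option autoImplicit false
universe u
open CategoryTheory CategoryTheory.Limits AlgebraicGeometry Opposite

noncomputable section

namespace K230.PsiFrob

open Groth.Agent.Etdl.H432.Sec Groth.Agent.Etdl.H494 K771.Pts K771.Aff K771.AffLocal K771.AffHom K771.RedExt
  K771.Line K230.PsiAlg K230.PsiSh K230.PsiCoh K230.PsiLine K828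

section alg

variable {p : ℕ} {B B' : Type u} [CommRing B] [CommRing B'] {β : B →+* B'} {t : B} {x : B'}

theorem flat_and_fp (h : IsK p β t x) : β.Flat ∧ β.FinitePresentation := by
  algebraize [β]
  let L : (Fin p → B) ≃ₗ[B] B' := LinearEquiv.ofBijective
    { toFun := fun a => ∑ i : Fin p, algebraMap B B' (a i) * x ^ (i : ℕ)
      map_add' := fun a b => by simp only [Pi.add_apply, map_add, add_mul, Finset.sum_add_distrib]
      map_smul' := fun c a => by
        simp only [Pi.smul_apply, smul_eq_mul, map_mul, RingHom.id_apply, Finset.mul_sum, Algebra.smul_def, mul_assoc] }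
    h.bij
  have h1 : Module.Free B B' := Module.Free.of_equiv L
  have h2 : Module.Finite B B' := Module.Finite.equiv L
  have h3 : Module.FinitePresentation B B' := Module.finitePresentation_of_projective B B'
  have h4 : Algebra.FinitePresentation B B' := inferInstance
  exact ⟨(inferInstance : Module.Flat B B'), h4⟩

/-- From the decomposition of a ring over its subring of `p`-th powers. -/
theorem isK_of_PB {R : Type u} [CommRing R] {t : R} (h : K770.PsiPrim.PB p R t)
    (β : R →+* R) (hβ : ∀ a, β a = a ^ p) : IsK p β t t where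
  pow := (hβ t).symm
  bij := by
    have hsum : ∀ a : ℕ → R, ∑ i : Fin p, β (a i) * t ^ (i : ℕ) = ∑ i ∈ Finset.range p, a i ^ p * t ^ i := fun a => by
      rw [← Fin.sum_univ_eq_sum_range (fun i => a i ^ p * t ^ i) p]
      exact Finset.sum_congr rfl fun i _ => by rw [hβ]
    let E : (Fin p → R) → ℕ → R := fun a i => if hi : i < p then a ⟨i, hi⟩ else 0
    have hE : ∀ (a : Fin p → R) (i : Fin p), E a i = a i := fun a i => dif_pos i.2
    have hE' : ∀ a : Fin p → R, ∑ i : Fin p, β (a i) * t ^ (i : ℕ) = ∑ i ∈ Finset.range p, E a i ^ p * t ^ i := fun a => by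
      rw [← hsum]
      exact Finset.sum_congr rfl fun i _ => by rw [hE]
    constructor
    · intro a b hab
      have h1 : ∑ i : Fin p, β (a i - b i) * t ^ (i : ℕ) = 0 := by
        simp only [map_sub, sub_mul, Finset.sum_sub_distrib]
        exact sub_eq_zero.2 hab
      have h2 := h.ind (E (fun i => a i - b i)) ((hE' _).symm.trans h1)
      funext i
      exact sub_eq_zero.1 ((hE (fun i => a i - b i) i).symm.trans (h2 i i.2))
    · intro r
      obtain ⟨a, ha⟩ := h.gen r
      exact ⟨fun i => a i, by rw [ha]; exact hsum a⟩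

theorem PB_of_equiv {R S : Type u} [CommRing R] [CommRing S] {t : R} (h : K770.PsiPrim.PB p R t) (e : R ≃+* S) :
    K770.PsiPrim.PB p S (e t) where
  gen s := by
    obtain ⟨a, ha⟩ := h.gen (e.symm s)
    refine ⟨fun i => e (a i), ?_⟩
    have h1 := congrArg e ha
    rw [RingEquiv.apply_symm_apply, map_sum] at h1
    rw [h1]
    exact Finset.sum_congr rfl fun i _ => by rw [map_mul, map_pow, map_pow]
  ind a ha i hi := by
    have h1 := h.ind (fun i => e.symm (a i)) (by
      apply e.injective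
      rw [map_zero, map_sum]
      refine Eq.trans (Finset.sum_congr rfl fun i _ => ?_) ha
      rw [map_mul, map_pow, map_pow, RingEquiv.apply_symm_apply]) i hi
    apply e.symm.injective
    rw [map_zero]
    exact h1

/-- The two descriptions of the image of `psi`. -/
theorem exists_psi_iff (h : IsK p β t x) [Fact p.Prime] (c : B) :
    (∃ b, h.psi b = c) ↔ c ∈ Set.range (K770.PsiPrim.psi p t) := by
  constructor
  · rintro ⟨b, rfl⟩
    refine ⟨fun i => if hi : i < p then h.cf b ⟨i, hi⟩ else 0, ?_⟩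
    rw [K770.PsiPrim.psi, IsK.psi, ← Fin.sum_univ_eq_sum_range (fun i =>
      (if hi : i < p then h.cf b ⟨i, hi⟩ else 0) ^ p * t ^ i) p, dif_pos (Nat.sub_lt (Fact.out : p.Prime).pos one_pos)]
    congr 1
    exact Finset.sum_congr rfl fun i _ => by rw [dif_pos i.2]
  · rintro ⟨a, rfl⟩
    refine ⟨∑ i : Fin p, β (a i) * x ^ (i : ℕ), ?_⟩
    rw [h.psi_sum (fun i => a i), K770.PsiPrim.psi, ← Fin.sum_univ_eq_sum_range (fun i => a i ^ p * t ^ i) p]
    rfl

end alg

section frob

variable {X : Scheme.{u}} [IsAffine X] (p : ℕ) [hp : Fact p.Prime] [hc : FrobSch.IsCharP X p]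

instance surjective_frob : Surjective (FrobSch.frob X p) := ⟨fun x => ⟨x, rfl⟩⟩

variable {t : Γ(X, ⊤)} (ht : K770.PsiPrim.PB p Γ(X, ⊤) t)

include ht

omit [IsAffine X] in
theorem isK_frob : IsK p (FrobSch.frob X p).appTop.hom t t :=
  isK_of_PB ht _ fun _ => rfl

theorem flat_frob : Flat (FrobSch.frob X p) :=
  (HasRingHomProperty.iff_of_isAffine (P := @Flat)).2 (flat_and_fp (isK_frob p ht)).1

theorem lfp_frob : LocallyOfFinitePresentation (FrobSch.frob X p) :=
  (HasRingHomProperty.iff_of_isAffine (P := @LocallyOfFinitePresentation)).2 (flat_and_fp (isK_frob p ht)).2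

variable (𝓗 : CohT Scheme.fppfPrecoverage X)

/-- The map `kappa : O(T) ⟶ H²(T, G_m)`. -/
def kf (T : Over X) : O T →+ 𝓗.H (Gm X) 2 T :=
  haveI := flat_frob p ht
  haveI := lfp_frob p ht
  kap (FrobSch.frob X p) (isK_frob p ht) FrobSch.IsCharP.natCast_eq_zero 𝓗 T

theorem kf_res {T T' : Over X} (g : T' ⟶ T) (c : O T) : 𝓗.res g (kf p ht 𝓗 T c) = kf p ht 𝓗 T' (ro g c) :=
  haveI := flat_frob p ht
  haveI := lfp_frob p ht
  kap_res (FrobSch.frob X p) (isK_frob p ht) FrobSch.IsCharP.natCast_eq_zero 𝓗 g c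

theorem kf_psi (T : Over X) [IsAffine T.left] (c : O T) (hc : c ∈ Set.range (K770.PsiPrim.psi p (tT t T))) :
    kf p ht 𝓗 T c = 0 := by
  have := flat_frob p ht
  have := lfp_frob p ht
  obtain ⟨b, rfl⟩ := (exists_psi_iff (isK (FrobSch.frob X p) (isK_frob p ht) T) c).2 hc
  exact kap_psi (FrobSch.frob X p) (isK_frob p ht) FrobSch.IsCharP.natCast_eq_zero 𝓗 T b

theorem kf_ker (T : Over X) [IsAffine T.left] (hT : Fac (wo (FrobSch.frob X p) T)) (c : O T)
    (hc : kf p ht 𝓗 T c = 0) : c ∈ Set.range (K770.PsiPrim.psi p (tT t T)) := by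
  have := flat_frob p ht
  have := lfp_frob p ht
  rw [← exists_psi_iff (isK (FrobSch.frob X p) (isK_frob p ht) T)]
  exact exists_psi (FrobSch.frob X p) (isK_frob p ht) FrobSch.IsCharP.natCast_eq_zero 𝓗 T
    (fun x => hT.eq_zero_W_Gm (FrobSch.frob X p) 𝓗 x) c hc

theorem kf_ker1 [IsDomain Γ(X, ⊤)] [UniqueFactorizationMonoid Γ(X, ⊤)] [IsAffine (Red.Ga X).left]
    (c : O (Red.Ga X)) (hc : kf p ht 𝓗 (Red.Ga X) c = 0) :
    c ∈ Set.range (K770.PsiPrim.psi p (tT t (Red.Ga X))) :=
  kf_ker p ht 𝓗 (Red.Ga X) (fac_Ga (FrobSch.frob X p)) c hc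

theorem kf_ker2 [IsDomain Γ(X, ⊤)] [UniqueFactorizationMonoid Γ(X, ⊤)] [IsAffine (Red.Ga X).left]
    (c : O (L1 (Red.Ga X))) (hc : kf p ht 𝓗 (L1 (Red.Ga X)) c = 0) :
    c ∈ Set.range (K770.PsiPrim.psi p (tT t (L1 (Red.Ga X)))) :=
  kf_ker p ht 𝓗 (L1 (Red.Ga X)) (fac_plane (FrobSch.frob X p)) c hc

theorem kf_lift [IsAffine (Red.Ga X).left] [IsAffine (Over.mk (FrobSch.frob X p)).left]
    (v : 𝓗.H (Gm X) 2 (Red.Ga X)) (hv : 𝓗.res (pL (Over.mk (FrobSch.frob X p))) v = 0) :
    ∃ c, kf p ht 𝓗 (Red.Ga X) c = v := by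
  have := flat_frob p ht
  have := lfp_frob p ht
  refine exists_kap (FrobSch.frob X p) (isK_frob p ht) FrobSch.IsCharP.natCast_eq_zero 𝓗 (Red.Ga X) v ?_
  have h1 : (isoGa (FrobSch.frob X p)).hom ≫ pL (Over.mk (FrobSch.frob X p)) = pr (FrobSch.frob X p) (Red.Ga X) := by
    change mkL _ _ ≫ _ = _
    rw [mkL_pL, pt_r_un]
  rw [← h1, 𝓗.res_comp, hv, map_zero]

end frob

end K230.PsiFrob
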