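import Groth.Agent.GaDual.K230.PsiCoh
import Groth.Agent.GaDual.K771.LineRep
import Groth.Agent.GaDual.K771.PicUfd

/-!
# `𝔸¹_T ×_X Y` is the affine line over `T ×_X Y`
-/

set_option autoImplicit false
universe u
open CategoryTheory CategoryTheory.Limits AlgebraicGeometry Opposite

noncomputable section

namespace K230.PsiLine

open Groth.Agent.Etdl.H432.Sec Groth.Agent.Etdl.H494 K771.Pts K771.Aff K771.AffLocal K771.AffHom K771.RedExt
  K771.Line K230.PsiAlg K230.PsiSh K230.PsiCoh K828

section wl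

variable {X Y : Scheme.{u}} (f : Y ⟶ X)

/-- The projection `T ×_X Y ⟶ Y`. -/
def pv (T : Over X) : wo f T ⟶ Over.mk f := Over.homMk (pullback.snd T.hom f) rfl

theorem wm_pv {T T' : Over X} (g : T' ⟶ T) : wm f g ≫ pv f T = pv f T' := by
  ext : 1
  change pullback.lift (pullback.fst T'.hom f ≫ g.left) (pullback.snd T'.hom f) _ ≫ pullback.snd T.hom f =
    pullback.snd T'.hom f
  exact pullback.lift_snd _ _ _

variable {f}

/-- The universal property of `T ×_X Y`. -/
def wl {T V : Over X} (a : V ⟶ T) (b : V ⟶ Over.mk f) : V ⟶ wo f T :=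
  Over.homMk (pullback.lift a.left b.left (by
    rw [Over.w a]
    exact (Over.w b).symm)) (by
    change pullback.lift a.left b.left _ ≫ pullback.snd T.hom f ≫ f = V.hom
    rw [← Category.assoc, pullback.lift_snd]
    exact Over.w b)

theorem wl_pr {T V : Over X} (a : V ⟶ T) (b : V ⟶ Over.mk f) : wl a b ≫ pr f T = a := by
  ext : 1
  exact pullback.lift_fst _ _ _

theorem wl_pv {T V : Over X} (a : V ⟶ T) (b : V ⟶ Over.mk f) : wl a b ≫ pv f T = b := by
  ext : 1
  exact pullback.lift_snd _ _ _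

theorem wo_ext {T V : Over X} {k k' : V ⟶ wo f T} (h1 : k ≫ pr f T = k' ≫ pr f T) (h2 : k ≫ pv f T = k' ≫ pv f T) :
    k = k' := by
  ext : 1
  exact pullback.hom_ext (congrArg (fun g => g.left) h1) (congrArg (fun g => g.left) h2)

variable (f)

/-- `𝔸¹_T ×_X Y = 𝔸¹_{T ×_X Y}`. -/
def isoLine (T : Over X) [IsAffine T.left] [IsAffine (wo f T).left] : wo f (L1 T) ≅ L1 (wo f T) where
  hom := mkL (wm f (πL T)) (r (Ga X) (pr f (L1 T)) (xL T))
  inv := wl (mkL (πL (wo f T) ≫ pr f T) (xL (wo f T))) (πL (wo f T) ≫ pv f T)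
  hom_inv_id := by
    apply wo_ext
    · rw [Category.assoc, wl_pr, comp_mkL, ← Category.assoc, mkL_πL, r_mkL_xL, pr_nat, Category.id_comp]
      apply L1_ext
      · rw [mkL_πL]
      · rw [r_mkL_xL]
    · rw [Category.assoc, wl_pv, ← Category.assoc, mkL_πL, wm_pv, Category.id_comp]
  inv_hom_id := by
    apply L1_ext
    · rw [Category.assoc, mkL_πL, Category.id_comp]
      apply wo_ext
      · rw [Category.assoc, pr_nat, ← Category.assoc, wl_pr, mkL_πL]
      · rw [Category.assoc, wm_pv, wl_pv]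
    · rw [← r_r, r_mkL_xL, r_r, wl_pr, r_mkL_xL, r_id]

/-- `𝔸¹_X ×_X Y = 𝔸¹_Y`. -/
def isoGa [IsAffine Y] [IsAffine (Over.mk f).left] : wo f (Red.Ga X) ≅ L1 (Over.mk f) where
  hom := mkL (pv f _) (r (Ga X) (pr f _) (un X))
  inv := wl (pL (Over.mk f)) (πL (Over.mk f))
  hom_inv_id := by
    apply wo_ext
    · rw [Category.assoc, wl_pr, mkL_pL, pt_r_un, Category.id_comp]
    · rw [Category.assoc, wl_pv, mkL_πL, Category.id_comp]
  inv_hom_id := by
    apply L1_ext
    · rw [Category.assoc, mkL_πL, wl_pv, Category.id_comp]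
    · rw [← r_r, r_mkL_xL, r_r, wl_pr, r_id]
      exact r_pt_un _

end wl

section fac

variable {X Y : Scheme.{u}}

/-- Affine with factorial ring of functions. -/
structure Fac (T : Over X) : Prop where
  aff : IsAffine T.left
  dom : IsDomain (O T)
  ufd : UniqueFactorizationMonoid (O T)

theorem Fac.of_iso {T T' : Over X} (h : Fac T) (e : T ≅ T') : Fac T' := by
  have h1 := h.aff
  have h2 := h.dom
  have h3 := h.ufd
  let e' : O T ≃+* O T' := (Scheme.Γ.mapIso ((Over.forget X).mapIso e.symm).op).commRingCatIsoToRingEquiv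
  have h4 : IsIso e.inv.left := inferInstanceAs (IsIso ((Over.forget X).map e.inv))
  exact
    { aff := .of_isIso e.inv.left
      dom := e'.symm.toMulEquiv.isDomain _
      ufd := e'.toMulEquiv.uniqueFactorizationMonoid inferInstance }

theorem Fac.line {T : Over X} (h : Fac T) [hT : IsAffine T.left] : Fac (L1 T) := by
  have h2 := h.dom
  have h3 := h.ufd
  exact
    { aff := inferInstance
      dom := (eL T).symm.toMulEquiv.isDomain _
      ufd := (eL T).toMulEquiv.uniqueFactorizationMonoid inferInstance }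

/-- Sections of a `G_m`-quotient lift. -/
theorem Fac.exists_lift {T : Over X} (h : Fac T) {A : ShortComplex (EtFppf.AbF X)} (hA : A.ShortExact)
    (e : A.X₁ ≅ Gm X) (q : Γs A.X₃ T) : ∃ a : Γs A.X₂ T, m A.g T a = q := by
  have h1 := h.aff
  have h2 : IsDomain Γ(T.left, ⊤) := h.dom
  have h3 : UniqueFactorizationMonoid Γ(T.left, ⊤) := h.ufd
  have h4 : Nonempty T.left := by
    by_contra h
    rw [not_nonempty_iff] at h
    have : Subsingleton Γ(T.left, ⊤) := inferInstance
    exact not_subsingleton _ this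
  have hm := hA.mono_f
  exact K771.PicLift.exists_lift hA.exact e T (fun L hL => K771.PicUfd.pic_trivial _ L hL) q
    (fun x => K771.ZarH90.exists_zar_lift hA e q x)

/-- `H¹(T, f_* G_m) = 0` if `T ×_X Y` is factorial. -/
theorem Fac.eq_zero_W_Gm (f : Y ⟶ X) {T : Over X} (h : Fac (wo f T)) (𝓗 : CohT Scheme.fppfPrecoverage X)
    (x : 𝓗.H ((W f).obj (Gm X)) 1 T) : x = 0 := by
  have hA : (ShortComplex.mk (Injective.ι (Gm X)) (cokernel.π (Injective.ι (Gm X))) (cokernel.condition _)).ShortExact :=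
    { exact := ShortComplex.exact_cokernel _
      mono_f := inferInstanceAs (Mono (Injective.ι (Gm X)))
      epi_g := inferInstanceAs (Epi (cokernel.π (Injective.ι (Gm X)))) }
  have hI : Injective (Injective.under (Gm X)) := inferInstance
  exact eq_zero_of_lift (A := ShortComplex.mk (Injective.ι (Gm X)) (cokernel.π (Injective.ι (Gm X)))
    (cokernel.condition _)) f hA 𝓗 T (fun c => h.exists_lift hA (Iso.refl _) c) x

/-- The affine line over `Y`. -/
theorem fac_Ga (f : Y ⟶ X) [hY : IsAffine Y] [IsDomain Γ(Y, ⊤)] [UniqueFactorizationMonoid Γ(Y, ⊤)] :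
    Fac (wo f (Red.Ga X)) := by
  have h1 : Fac (Over.mk f) :=
    { aff := hY
      dom := inferInstanceAs (IsDomain Γ(Y, ⊤))
      ufd := inferInstanceAs (UniqueFactorizationMonoid Γ(Y, ⊤)) }
  have h2 : IsAffine (Over.mk f).left := hY
  exact h1.line.of_iso (isoGa f).symm

/-- The affine plane over `Y`. -/
theorem fac_plane (f : Y ⟶ X) [hY : IsAffine Y] [IsDomain Γ(Y, ⊤)]
    [UniqueFactorizationMonoid Γ(Y, ⊤)] [IsAffine (Red.Ga X).left] : Fac (wo f (L1 (Red.Ga X))) := by
  have h1 := fac_Ga f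
  have h2 : IsAffine (wo f (Red.Ga X)).left := h1.aff
  exact h1.line.of_iso (isoLine f (Red.Ga X)).symm

end fac

end K230.PsiLine
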