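import Groth.Agent.GaDual.K230.PsiAlg
import Groth.Agent.GaDual.K771.FrobSeq
import Groth.Agent.GaDual.K771.RedExt
import Groth.Agent.TateGlob.K827.Leray
import Mathlib.AlgebraicGeometry.Morphisms.Affine

/-!
# The sequence `0 ⟶ G_m ⟶ f_* G_m ⟶ f_* G_a ⟶ G_a ⟶ 0`

`f : Y ⟶ X` affine schemes with `Γ(Y) = Γ(X)[x] / (x ^ p - t)`, `p = 0` on `X`.
-/

set_option autoImplicit false
universe u
open CategoryTheory CategoryTheory.Limits AlgebraicGeometry Opposite

noncomputable section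

namespace K230.PsiSh

open Groth.Agent.Etdl.H432.Sec Groth.Agent.Etdl.H494 K771.Pts K771.Aff K771.AffLocal K771.AffHom K771.RedExt K230.PsiAlg

section W

variable {X Y : Scheme.{u}} (f : Y ⟶ X)

/-- `T ×_X Y`, over `X`. -/
def wo (T : Over X) : Over X := (Over.map f).obj ((Over.pullback f).obj T)

/-- Functoriality of `wo`. -/
def wm {T T' : Over X} (g : T' ⟶ T) : wo f T' ⟶ wo f T := (Over.map f).map ((Over.pullback f).map g)

/-- The projection `T ×_X Y ⟶ T`. -/
def pr (T : Over X) : wo f T ⟶ T := Over.homMk (pullback.fst T.hom f) pullback.condition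

theorem pr_nat {T T' : Over X} (g : T' ⟶ T) : wm f g ≫ pr f T = pr f T' ≫ g := by
  ext : 1
  change pullback.lift (pullback.fst T'.hom f ≫ g.left) (pullback.snd T'.hom f) _ ≫ pullback.fst T.hom f =
    pullback.fst T'.hom f ≫ g.left
  exact pullback.lift_fst _ _ _

theorem wm_comp {T T' T'' : Over X} (g : T' ⟶ T) (k : T'' ⟶ T') : wm f (k ≫ g) = wm f k ≫ wm f g := by
  change (Over.map f).map ((Over.pullback f).map (k ≫ g)) =
    (Over.map f).map ((Over.pullback f).map k) ≫ (Over.map f).map ((Over.pullback f).map g)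
  rw [Functor.map_comp, Functor.map_comp]

/-- `F ↦ f_* f⁻¹ F`. -/
def W : EtFppf.AbF X ⥤ EtFppf.AbF X :=
  BigSite.pullBig Scheme.fppfPrecoverage f AddCommGrpCat.{u + 1} ⋙
    BigSite.pushBig Scheme.fppfPrecoverage f AddCommGrpCat.{u + 1}

/-- Sections of `f_* f⁻¹ F`. -/
def wE (F : EtFppf.AbF X) (T : Over X) : Γs ((W f).obj F) T ≃+ Γs F (wo f T) := AddEquiv.refl _

theorem wE_r (F : EtFppf.AbF X) {T T' : Over X} (g : T' ⟶ T) (s : Γs ((W f).obj F) T) :
    wE f F T' (r ((W f).obj F) g s) = r F (wm f g) (wE f F T s) := rfl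

theorem wE_m {F G : EtFppf.AbF X} (φ : F ⟶ G) (T : Over X) (s : Γs ((W f).obj F) T) :
    wE f G T (m ((W f).map φ) T s) = m φ (wo f T) (wE f F T s) := rfl

/-- The unit `F ⟶ f_* f⁻¹ F`. -/
def η (F : EtFppf.AbF X) : F ⟶ (W f).obj F :=
  mkH (fun T => (wE f F T).symm.toAddMonoidHom.comp (r F (pr f T))) (fun T T' g y => by
    apply (wE f F T').injective
    rw [wE_r]
    change r F (wm f g) (r F (pr f T) y) = r F (pr f T') (r F g y)
    rw [r_r, r_r, pr_nat])

theorem wE_η (F : EtFppf.AbF X) (T : Over X) (s : Γs F T) : wE f F T (m (η f F) T s) = r F (pr f T) s := rfl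

theorem η_nat {F G : EtFppf.AbF X} (φ : F ⟶ G) : η f F ≫ (W f).map φ = φ ≫ η f G := by
  refine hom_ext_m fun T s => ?_
  apply (wE f G T).injective
  rw [m_comp, m_comp, wE_m, wE_η, wE_η, m_r]

end W

theorem injective_ι' {X : Scheme.{u}} {F G : EtFppf.AbF X} (φ : F ⟶ G) (T : Over X) :
    Function.Injective (m (kernel.ι φ) T) :=
  K731.Basic.injective_of_mono (K := Scheme.fppfPrecoverage) (kernel.ι φ) (op T)

section Aff

variable {X Y : Scheme.{u}} (f : Y ⟶ X)

/-- The function `t` on `T`. -/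
def tT (t : Γ(X, ⊤)) (T : Over X) : O T := T.hom.appTop.hom t

/-- The function `x` on `T ×_X Y`. -/
def xT (x : Γ(Y, ⊤)) (T : Over X) : O (wo f T) := (pullback.snd T.hom f).appTop.hom x

theorem ro_tT (t : Γ(X, ⊤)) {T T' : Over X} (g : T' ⟶ T) : ro g (tT t T) = tT t T' := by
  change g.left.appTop.hom (T.hom.appTop.hom t) = T'.hom.appTop.hom t
  rw [← Over.w g, Scheme.Hom.comp_appTop]
  rfl

theorem ro_xT (x : Γ(Y, ⊤)) {T T' : Over X} (g : T' ⟶ T) : ro (wm f g) (xT f x T) = xT f x T' := by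
  change (pullback.lift (pullback.fst T'.hom f ≫ g.left) (pullback.snd T'.hom f) _).appTop.hom
    ((pullback.snd T.hom f).appTop.hom x) = (pullback.snd T'.hom f).appTop.hom x
  have h1 := pullback.lift_snd (f := T.hom) (g := f) (pullback.fst T'.hom f ≫ g.left) (pullback.snd T'.hom f)
    (by rw [Category.assoc, Over.w g, pullback.condition])
  conv_rhs => rw [← h1, Scheme.Hom.comp_appTop]
  rfl

variable [IsAffine X] [IsAffine Y]

instance isAffine_w (T : Over X) [IsAffine T.left] : IsAffine (wo f T).left :=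
  inferInstanceAs (IsAffine (pullback T.hom f))

variable {p : ℕ} {t : Γ(X, ⊤)} {x : Γ(Y, ⊤)} (hK : IsK p f.appTop.hom t x)

include hK in
theorem isK (T : Over X) [IsAffine T.left] : IsK p (ro (pr f T)) (tT t T) (xT f x T) := by
  have h1 := isPushout_appTop_of_isPullback (IsPullback.of_hasPullback T.hom f)
  algebraize [T.hom.appTop.hom, f.appTop.hom, (pullback.fst T.hom f).appTop.hom,
    (pullback.snd T.hom f).appTop.hom, (pullback.fst T.hom f).appTop.hom.comp T.hom.appTop.hom]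
  have e : ((pullback.fst T.hom f).appTop.hom.comp T.hom.appTop.hom) =
      (pullback.snd T.hom f).appTop.hom.comp f.appTop.hom := congrArg (fun q => q.hom) h1.w
  have : IsScalarTower Γ(X, ⊤) Γ(Y, ⊤) Γ(pullback T.hom f, ⊤) :=
    IsScalarTower.of_algebraMap_eq fun a => congrArg (fun q : Γ(X, ⊤) →+* Γ(pullback T.hom f, ⊤) => q a) e
  have : IsScalarTower Γ(X, ⊤) Γ(T.left, ⊤) Γ(pullback T.hom f, ⊤) := IsScalarTower.of_algebraMap_eq fun a => rfl
  have h2 : Algebra.IsPushout Γ(X, ⊤) Γ(T.left, ⊤) Γ(Y, ⊤) Γ(pullback T.hom f, ⊤) :=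
    CommRingCat.isPushout_iff_isPushout.mp h1
  exact IsK.of_isPushout (R := Γ(X, ⊤)) (S := Γ(Y, ⊤)) (B := Γ(T.left, ⊤)) (B' := Γ(pullback T.hom f, ⊤)) hK h2

variable [hp : Fact p.Prime] (h0 : (p : Γ(X, ⊤)) = 0)

include h0 in
omit [IsAffine X] hp in
theorem p_eq_zero (T : Over X) : (p : O T) = 0 := by
  have h1 := congrArg T.hom.appTop.hom h0
  rwa [map_natCast, map_zero] at h1

/-- `psi` on sections. -/
def psiF (T : Over X) [IsAffine T.left] : Γs (Ga X) (wo f T) →+ Γs (Ga X) T :=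
  AddMonoidHom.mk' (fun s => gas ((isK f hK T).psi (ga s))) (fun s s' => by
    rw [← gas_add, ← (isK f hK T).psi_add (p_eq_zero h0 T), ga_add])

theorem ga_psiF (T : Over X) [hT : IsAffine T.left] (s : Γs (Ga X) (wo f T)) :
    ga (psiF f hK h0 T s) = (isK f hK T).psi (ga s) := ga_gas _

/-- The morphism `psi : f_* G_a ⟶ G_a`. -/
def psiS : (W f).obj (Ga X) ⟶ Ga X :=
  homA (fun T hT => (psiF f hK h0 T).comp (wE f (Ga X) T).toAddMonoidHom)
    (fun T T' hT hT' g s => by
      change r (Ga X) g (psiF f hK h0 T (wE f (Ga X) T s)) = psiF f hK h0 T' (wE f (Ga X) T' (r _ g s))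
      apply ga_injective
      rw [wE_r, ga_psiF, ga_r, ga_psiF, ga_r, (isK f hK T).psi_map (isK f hK T') (ro g) (ro (wm f g)) (fun b => by
        rw [ro_ro, ro_ro, pr_nat]) (ro_tT t g) (ro_xT f x g)])

theorem ga_psiS (T : Over X) [hT : IsAffine T.left] (s : Γs ((W f).obj (Ga X)) T) :
    ga (m (psiS f hK h0) T s) = (isK f hK T).psi (ga (wE f (Ga X) T s)) := by
  have h1 : m (psiS f hK h0) T s = psiF f hK h0 T (wE f (Ga X) T s) := m_homA _ _ T hT s
  rw [h1, ga_psiF]

/-- `dlog` on sections. -/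
def dlogF (T : Over X) [IsAffine T.left] : Γs (Gm X) (wo f T) →+ Γs (Ga X) (wo f T) :=
  AddMonoidHom.mk' (fun s => gas ((isK f hK T).D (p_eq_zero h0 T) (gm s) * gm (-s))) (fun s s' => by
    rw [← gas_add, neg_add, gm_add, gm_add, Derivation.leibniz]
    congr 1
    have h1 := gm_mul_neg s
    have h2 := gm_mul_neg s'
    simp only [smul_eq_mul]
    linear_combination ((isK f hK T).D (p_eq_zero h0 T) (gm s') * gm (-s')) * h1 +
      ((isK f hK T).D (p_eq_zero h0 T) (gm s) * gm (-s)) * h2)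

theorem ga_dlogF (T : Over X) [IsAffine T.left] (s : Γs (Gm X) (wo f T)) :
    ga (dlogF f hK h0 T s) = (isK f hK T).D (p_eq_zero h0 T) (gm s) * gm (-s) := ga_gas _

/-- The morphism `dlog : f_* G_m ⟶ f_* G_a`. -/
def dlogS : (W f).obj (Gm X) ⟶ (W f).obj (Ga X) :=
  homA (fun T hT => (wE f (Ga X) T).symm.toAddMonoidHom.comp ((dlogF f hK h0 T).comp (wE f (Gm X) T).toAddMonoidHom))
    (fun T T' hT hT' g s => by
      apply (wE f (Ga X) T').injective
      rw [wE_r]
      change r (Ga X) (wm f g) (dlogF f hK h0 T (wE f (Gm X) T s)) = dlogF f hK h0 T' (wE f (Gm X) T' (r _ g s))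
      apply ga_injective
      have h1 : gm (-(r (Gm X) (wm f g) (wE f (Gm X) T s))) = ro (wm f g) (gm (-(wE f (Gm X) T s))) := by
        rw [← map_neg (r (Gm X) (wm f g)), gm_r]
      rw [wE_r, ga_dlogF, ga_r, ga_dlogF, map_mul, h1, gm_r,
        (isK f hK T).D_map (isK f hK T') (ro g) (ro (wm f g)) (fun b => by
        rw [ro_ro, ro_ro, pr_nat]) (ro_xT f x g) (p_eq_zero h0 T) (p_eq_zero h0 T')])

theorem ga_dlogS (T : Over X) [hT : IsAffine T.left] (s : Γs ((W f).obj (Gm X)) T) :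
    ga (wE f (Ga X) T (m (dlogS f hK h0) T s)) =
      (isK f hK T).D (p_eq_zero h0 T) (gm (wE f (Gm X) T s)) * gm (-(wE f (Gm X) T s)) := by
  have h1 : wE f (Ga X) T (m (dlogS f hK h0) T s) = dlogF f hK h0 T (wE f (Gm X) T s) :=
    congrArg (wE f (Ga X) T) (m_homA _ _ T hT s)
  rw [h1, ga_dlogF]

theorem dlog_psi : dlogS f hK h0 ≫ psiS f hK h0 = 0 := by
  refine hom_ext_affine fun T hT s => ?_
  rw [m_comp, m_zero]
  apply ga_injective
  rw [ga_psiS, ga_dlogS, ga_zero]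
  exact (isK f hK T).psi_dlog (p_eq_zero h0 T) (gm_mul_neg _)

/-- The logarithmic derivative, with values in the kernel of `psi`. -/
def dlogK : (W f).obj (Gm X) ⟶ kernel (psiS f hK h0) := kernel.lift _ (dlogS f hK h0) (dlog_psi f hK h0)

theorem dlogK_ι : dlogK f hK h0 ≫ kernel.ι _ = dlogS f hK h0 := kernel.lift_ι _ _ _

theorem η_dlog : η f (Gm X) ≫ dlogS f hK h0 = 0 := by
  refine hom_ext_affine fun T hT s => ?_
  rw [m_comp, m_zero]
  apply (wE f (Ga X) T).injective
  apply ga_injective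
  rw [ga_dlogS, map_zero, ga_zero, wE_η, gm_r, (isK f hK T).D_β, zero_mul]

theorem η_dlogK : η f (Gm X) ≫ dlogK f hK h0 = 0 := by
  rw [← cancel_mono (kernel.ι (psiS f hK h0)), Category.assoc, dlogK_ι, η_dlog, Limits.zero_comp]

/-- `0 ⟶ G_m ⟶ f_* G_m ⟶ Q ⟶ 0`. -/
abbrev S₁ : ShortComplex (EtFppf.AbF X) := ShortComplex.mk (η f (Gm X)) (dlogK f hK h0) (η_dlogK f hK h0)

/-- `0 ⟶ Q ⟶ f_* G_a ⟶ G_a ⟶ 0`. -/
abbrev S₂ : ShortComplex (EtFppf.AbF X) :=
  ShortComplex.mk (kernel.ι (psiS f hK h0)) (psiS f hK h0) (kernel.condition _)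

theorem epi_psiS [Flat f] [Surjective f] [LocallyOfFinitePresentation f] : Epi (psiS f hK h0) := by
  refine epi_of_affine _ fun T hT c => ?_
  have hT' : IsAffine (wo f T).left := isAffine_w f T
  refine ⟨PUnit, fun _ => wo f T, fun _ => pr f T, fun y => ⟨PUnit.unit, ?_, ?_, ?_⟩, fun _ => ?_⟩
  · exact inferInstanceAs (Flat (pullback.fst T.hom f))
  · exact inferInstanceAs (LocallyOfFinitePresentation (pullback.fst T.hom f))
  · have h6 : Surjective (pullback.fst T.hom f) := inferInstance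
    exact h6.surj y
  · have hs : (xT f x T) ^ p = tT t (wo f T) := by
      rw [(isK f hK T).pow, ro_tT]
    refine ⟨(wE f (Ga X) (wo f T)).symm (gas (∑ i : Fin p, ro (pr f (wo f T))
      (-(ga (r (Ga X) (pr f T) c) * (xT f x T) ^ (p - 1 - (i : ℕ)))) * xT f x (wo f T) ^ (i : ℕ))), ?_⟩
    apply ga_injective
    rw [ga_psiS, AddEquiv.apply_symm_apply, ga_gas]
    exact (isK f hK (wo f T)).psi_section (p_eq_zero h0 (wo f T)) _ hs _

theorem shortExact_S₂ [Flat f] [Surjective f] [LocallyOfFinitePresentation f] : (S₂ f hK h0).ShortExact where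
  exact := ShortComplex.exact_of_f_is_kernel _ (kernelIsKernel _)
  mono_f := by
    change Mono (kernel.ι (psiS f hK h0))
    infer_instance
  epi_g := epi_psiS f hK h0

theorem isUnit_basicOpen {Z : Scheme.{u}} (c : Γ(Z, ⊤)) : IsUnit ((Z.basicOpen c).ι.appTop.hom c) := by
  have h1 : (Z.basicOpen c : Scheme.{u}).basicOpen ((Z.basicOpen c).ι.appTop c) = ⊤ := by
    have := Scheme.preimage_basicOpen (Z.basicOpen c).ι c
    refine this.symm.trans ?_
    simp
  refine RingedSpace.isUnit_of_isUnit_germ _ _ _ (fun x hx => ?_)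
  have h2 : x ∈ (Z.basicOpen c : Scheme.{u}).basicOpen ((Z.basicOpen c).ι.appTop c) := by
    rw [h1]; trivial
  exact (Scheme.mem_basicOpen _ _ _ hx).1 h2

include hK in
theorem m_η_inj (T : Over X) [hT : IsAffine T.left] (s : Γs (Gm X) T) (hs : m (η f (Gm X)) T s = 0) : s = 0 := by
  apply gm_injective
  have h1 := congrArg (fun s => gm (wE f (Gm X) T s)) hs
  change gm (wE f (Gm X) T (m (η f (Gm X)) T s)) = gm (wE f (Gm X) T 0) at h1
  rw [wE_η, gm_r, map_zero, gm_zero] at h1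
  apply (isK f hK T).β_injective
  rw [h1, gm_zero, map_one]

theorem exact_S₁_sec (T : Over X) [hT : IsAffine T.left] (s : Γs ((W f).obj (Gm X)) T)
    (hs : m (dlogS f hK h0) T s = 0) : ∃ a, m (η f (Gm X)) T a = s := by
  have h1 : (isK f hK T).D (p_eq_zero h0 T) (gm (wE f (Gm X) T s)) * gm (-(wE f (Gm X) T s)) = 0 := by
    rw [← ga_dlogS f hK h0, hs, map_zero, ga_zero]
  have hu := gm_mul_neg (wE f (Gm X) T s)
  have h2 : (isK f hK T).D (p_eq_zero h0 T) (gm (wE f (Gm X) T s)) = 0 := by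
    linear_combination (gm (wE f (Gm X) T s)) * h1 - ((isK f hK T).D (p_eq_zero h0 T) (gm (wE f (Gm X) T s))) * hu
  have h3 : (isK f hK T).D (p_eq_zero h0 T) (gm (-(wE f (Gm X) T s))) = 0 := by
    have h4 := congrArg ((isK f hK T).D (p_eq_zero h0 T)) hu
    rw [Derivation.leibniz, h2, Derivation.map_one_eq_zero, smul_zero, add_zero, smul_eq_mul] at h4
    linear_combination (gm (-(wE f (Gm X) T s))) * h4 -
      ((isK f hK T).D (p_eq_zero h0 T) (gm (-(wE f (Gm X) T s)))) * hu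
  obtain ⟨a, ha⟩ := (isK f hK T).exists_of_D_eq_zero (p_eq_zero h0 T) h2
  obtain ⟨b, hb⟩ := (isK f hK T).exists_of_D_eq_zero (p_eq_zero h0 T) h3
  have hab : a * b = 1 := by
    apply (isK f hK T).β_injective
    rw [map_mul, ha, hb, hu, map_one]
  obtain ⟨s₀, hs₀⟩ := exists_gm (IsUnit.of_mul_eq_one b hab)
  refine ⟨s₀, ?_⟩
  apply (wE f (Gm X) T).injective
  apply gm_injective
  rw [wE_η, gm_r, hs₀, ha]

theorem epi_dlogK : Epi (dlogK f hK h0) := by
  refine epi_of_affine _ fun T hT q => ?_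
  set a : O (wo f T) := ga (wE f (Ga X) T (m (kernel.ι (psiS f hK h0)) T q)) with ha
  have h1 : (isK f hK T).psi a = 0 := by
    rw [ha, ← ga_psiS f hK h0 T, ← m_comp, kernel.condition, m_zero, ga_zero]
  have h2 : ∀ y : T.left, ∃ (g : O (wo f T)) (c : O T), y ∈ T.left.basicOpen c ∧ g ^ p = ro (pr f T) c ∧
      (isK f hK T).D (p_eq_zero h0 T) g = a * g := fun y => by
    let P : Ideal (O T) := RingHom.ker (T.left.Γevaluation y).hom
    have hP : P.IsPrime := RingHom.ker_isPrime _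
    obtain ⟨g, c, hc, hg, hg'⟩ := (isK f hK T).exists_dlog (p_eq_zero h0 T) h1 P
    exact ⟨g, c, (Scheme.evaluation_ne_zero_iff_mem_basicOpen _ _ _ _).1 hc, hg, hg'⟩
  choose g c hc hg hg' using h2
  refine ⟨ULift.{u + 1} T.left, fun y => opn T (T.left.basicOpen (c y.down)), fun y => opnι T _,
    isCov_opn (fun y : ULift.{u + 1} T.left => T.left.basicOpen (c y.down)) fun y => ⟨⟨y⟩, hc y⟩, fun y => ?_⟩
  set V := opn T (T.left.basicOpen (c y.down)) with hV
  set k : V ⟶ T := opnι T _ with hk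
  have hVa : IsAffine V.left := (isAffineOpen_top T.left).basicOpen (c y.down)
  have h3 : IsUnit (ro k (c y.down)) := isUnit_basicOpen (c y.down)
  have h4 : ro (wm f k) (g y.down) ^ p = ro (pr f V) (ro k (c y.down)) := by
    rw [← map_pow, hg, ro_ro, ro_ro, pr_nat]
  have h5 : IsUnit (ro (wm f k) (g y.down)) := by
    have h6 : IsUnit (ro (wm f k) (g y.down) ^ p) := by
      rw [h4]; exact h3.map _
    exact (isUnit_pow_iff hp.out.ne_zero).1 h6
  obtain ⟨s, hs⟩ := exists_gm h5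
  refine ⟨(wE f (Gm X) V).symm s, ?_⟩
  apply injective_ι' (psiS f hK h0) V
  rw [← m_comp, dlogK_ι]
  apply (wE f (Ga X) V).injective
  apply ga_injective
  rw [ga_dlogS, AddEquiv.apply_symm_apply, m_r, wE_r, ga_r, hs,
    (isK f hK T).D_map (isK f hK V) (ro k) (ro (wm f k)) (fun b => by
        rw [ro_ro, ro_ro, pr_nat]) (ro_xT f x k) (p_eq_zero h0 T) (p_eq_zero h0 V), hg', map_mul, mul_assoc, ← hs,
    gm_mul_neg, mul_one]

theorem shortExact_S₁ : (S₁ f hK h0).ShortExact where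
  exact := by
    refine exact_of_affine _ (fun T hT s hs => m_η_inj f hK T s hs) (fun T hT s hs => exact_S₁_sec f hK h0 T s ?_)
    change Γs ((W f).obj (Gm X)) T at s
    change m (dlogK f hK h0) T s = 0 at hs
    rw [← dlogK_ι, m_comp, hs, map_zero]
  mono_f := mono_of_affine _ fun T hT s hs => m_η_inj f hK T s hs
  epi_g := epi_dlogK f hK h0

end Aff

end K230.PsiSh
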