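import Groth.Agent.GaDual.K230.PsiFrob
import Groth.Agent.GaDual.K771.HomEv

/-!
# `kappa` as a morphism `G_a ⟶ R` into the second cosyzygy of `G_m`

For `0 ⟶ G_m ⟶ I ⟶ Q ⟶ 0` and `0 ⟶ Q ⟶ J ⟶ R ⟶ 0` exact with `I`, `J` injective, `exists_phi` constructs `φ : G_a ⟶ R`
inducing `kappa`, which lifts to `J` over `Y`.
-/

set_option autoImplicit false
universe u
open CategoryTheory CategoryTheory.Limits AlgebraicGeometry Opposite

noncomputable section

namespace K230.PsiSurj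

open Groth.Agent.Etdl.H432.Sec Groth.Agent.Etdl.H494 K771.Pts K771.Aff K771.AffLocal K771.AffHom K771.RedExt
  K771.HomEv K230.PsiAlg K230.PsiSh K230.PsiCoh K828

variable {X Y : Scheme.{u}} (f : Y ⟶ X) [IsAffine X] [IsAffine Y] {p : ℕ} {t : Γ(X, ⊤)} {x : Γ(Y, ⊤)}
  (hK : IsK p f.appTop.hom t x) [hp : Fact p.Prime] (h0 : (p : Γ(X, ⊤)) = 0)

section sig

/-- The `p`-th root of `t` on an object over `Y`. -/
def rt (x : Γ(Y, ⊤)) {T : Over X} (h : T ⟶ Over.mk f) : O T := h.left.appTop.hom x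

omit [IsAffine X] [IsAffine Y] in
theorem ro_rt {T T' : Over X} (h : T ⟶ Over.mk f) (g : T' ⟶ T) : ro g (rt f x h) = rt f x (g ≫ h) := by
  change g.left.appTop.hom (h.left.appTop.hom x) = (g.left ≫ h.left).appTop.hom x
  rw [Scheme.Hom.comp_appTop]
  rfl

include hK in
omit [IsAffine X] [IsAffine Y] hp in
theorem rt_pow {T : Over X} (h : T ⟶ Over.mk f) : rt f x h ^ p = tT t T := by
  have h1 : h.left.appTop.hom (f.appTop.hom t) = T.hom.appTop.hom t := by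
    have h2 : h.left ≫ f = T.hom := Over.w h
    rw [← h2, Scheme.Hom.comp_appTop]
    rfl
  change (h.left.appTop.hom x) ^ p = T.hom.appTop.hom t
  rw [← map_pow, hK.pow, h1]

/-- The section of `psi` over `Y`. -/
def sig (p : ℕ) (x : Γ(Y, ⊤)) {T : Over X} (h : T ⟶ Over.mk f) : Γs (Ga X) T →+ Γs (Ga X) (wo f T) :=
  AddMonoidHom.mk' (fun c => gas (∑ i : Fin p,
    ro (pr f T) (-(ga c * rt f x h ^ (p - 1 - (i : ℕ)))) * xT f x T ^ (i : ℕ))) (fun c c' => by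
      rw [← gas_add, ← Finset.sum_add_distrib]
      congr 1
      refine Finset.sum_congr rfl fun i _ => ?_
      rw [ga_add, add_mul, neg_add, map_add, add_mul])

omit [IsAffine X] [IsAffine Y] hp in
theorem ga_sig {T : Over X} (h : T ⟶ Over.mk f) (c : Γs (Ga X) T) : ga (sig f p x h c) = ∑ i : Fin p,
    ro (pr f T) (-(ga c * rt f x h ^ (p - 1 - (i : ℕ)))) * xT f x T ^ (i : ℕ) := ga_gas _

omit [IsAffine X] [IsAffine Y] hp in
theorem r_sig {T T' : Over X} (h : T ⟶ Over.mk f) (g : T' ⟶ T) (c : Γs (Ga X) T) :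
    r (Ga X) (wm f g) (sig f p x h c) = sig f p x (g ≫ h) (r (Ga X) g c) := by
  apply ga_injective
  rw [ga_r, ga_sig, ga_sig, map_sum]
  refine Finset.sum_congr rfl fun i _ => ?_
  rw [map_mul, map_pow, ro_xT, ro_ro, pr_nat, ← ro_ro, map_neg, map_neg, map_mul, map_pow, ro_rt, ga_r]
  rw [map_neg (ro (pr f T'))]

theorem psi_sig {T : Over X} (h : T ⟶ Over.mk f) (c : Γs (Ga X) T) :
    m (psiS f hK h0) T ((wE f (Ga X) T).symm (sig f p x h c)) = c := by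
  refine eq_of_affine (Ga X) _ _ fun V g hV => ?_
  rw [← m_r]
  have h1 : r ((W f).obj (Ga X)) g ((wE f (Ga X) T).symm (sig f p x h c)) =
      (wE f (Ga X) V).symm (sig f p x (g ≫ h) (r (Ga X) g c)) := by
    apply (wE f (Ga X) V).injective
    rw [wE_r, AddEquiv.apply_symm_apply, AddEquiv.apply_symm_apply, r_sig]
  rw [h1]
  apply ga_injective
  rw [ga_psiS, AddEquiv.apply_symm_apply, ga_sig]
  exact (isK f hK V).psi_section (p_eq_zero h0 V) _ (rt_pow f hK _) _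

end sig

section phi

variable [Surjective f] [Flat f] [LocallyOfFinitePresentation f] {I Q J R : EtFppf.AbF X} {a : Gm X ⟶ I} {b : I ⟶ Q}
  {w₁ : a ≫ b = 0} (hA : (ShortComplex.mk a b w₁).ShortExact) {c : Q ⟶ J} {d : J ⟶ R} {w₂ : c ≫ d = 0}
  (hB : (ShortComplex.mk c d w₂).ShortExact) [Injective I] [Injective J]

include hB in
/-- `kappa` is induced by a morphism `G_a ⟶ R` which lifts to `J` over `Y`. -/
theorem exists_phi : ∃ φ : Ga X ⟶ R,
    (∀ (𝓗 : CohT Scheme.fppfPrecoverage X) (T : Over X) (y : O T), kap f hK h0 𝓗 T y =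
      𝓗.del hA (𝓗.del hB (𝓗.sec.symm (m φ T (gas y))))) ∧
    ∃ w : Γs (hom (Ga X) J) (Over.mk f), m (HomSh.homShMap (EtFppf.J X) (𝟙 (Ga X)) d) _ w =
      ofHom φ (Over.mk f) := by
  have hS₁ := shortExact_S₁ f hK h0
  have hS₂ := shortExact_S₂ f hK h0
  have hm₁ : Mono (η f (Gm X)) := hS₁.mono_f
  have he₁ : Epi (dlogK f hK h0) := hS₁.epi_g
  have hm₂ : Mono (kernel.ι (psiS f hK h0)) := inferInstance
  have he₂ : Epi (psiS f hK h0) := hS₂.epi_g
  let α : (W f).obj (Gm X) ⟶ I := Injective.factorThru a (η f (Gm X))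
  have hα : η f (Gm X) ≫ α = a := Injective.comp_factorThru _ _
  let α' : kernel (psiS f hK h0) ⟶ Q := hS₁.exact.desc (α ≫ b) (by
    change η f (Gm X) ≫ α ≫ b = 0
    rw [← Category.assoc, hα, w₁])
  have hα' : dlogK f hK h0 ≫ α' = α ≫ b := hS₁.exact.g_desc _ _
  let β : (W f).obj (Ga X) ⟶ J := Injective.factorThru (α' ≫ c) (kernel.ι (psiS f hK h0))
  have hβ : kernel.ι (psiS f hK h0) ≫ β = α' ≫ c := Injective.comp_factorThru _ _
  let φ : Ga X ⟶ R := hS₂.exact.desc (β ≫ d) (by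
    change kernel.ι (psiS f hK h0) ≫ β ≫ d = 0
    rw [← Category.assoc, hβ, Category.assoc, w₂, comp_zero])
  have hφ : psiS f hK h0 ≫ φ = β ≫ d := hS₂.exact.g_desc _ _
  let Ψ₁ : S₁ f hK h0 ⟶ ShortComplex.mk a b w₁ :=
    { τ₁ := 𝟙 _
      τ₂ := α
      τ₃ := α'
      comm₁₂ := (Category.id_comp a).trans hα.symm
      comm₂₃ := hα'.symm }
  let Ψ₂ : S₂ f hK h0 ⟶ ShortComplex.mk c d w₂ :=
    { τ₁ := α'
      τ₂ := β
      τ₃ := φ
      comm₁₂ := hβ.symm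
      comm₂₃ := hφ.symm }
  refine ⟨φ, fun 𝓗 T y => ?_, ?_⟩
  · have h1 : 𝓗.sec.symm (m φ T (gas y)) = 𝓗.map φ (𝓗.sec.symm (gas y)) := by
      apply 𝓗.sec.injective
      rw [𝓗.sec_map, AddEquiv.apply_symm_apply, AddEquiv.apply_symm_apply]
      rfl
    rw [kap_apply, h1]
    have h2 : 𝓗.del hB (𝓗.map φ (𝓗.sec.symm (gas y))) = 𝓗.map α' (𝓗.del hS₂ (𝓗.sec.symm (gas y))) :=
      𝓗.del_nat hS₂ hB Ψ₂ (𝓗.sec.symm (gas y))
    have h3 : 𝓗.del hA (𝓗.map α' (𝓗.del hS₂ (𝓗.sec.symm (gas y)))) =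
        𝓗.map (𝟙 (Gm X)) (𝓗.del hS₁ (𝓗.del hS₂ (𝓗.sec.symm (gas y)))) :=
      𝓗.del_nat hS₁ hA Ψ₁ (𝓗.del hS₂ (𝓗.sec.symm (gas y)))
    rw [h2]
    exact (𝓗.map_id _).symm.trans h3.symm
  · refine ⟨mk (fun T h => (m β T).comp ((wE f (Ga X) T).symm.toAddMonoidHom.comp (sig f p x h)))
      (fun T T' h g y => ?_), ?_⟩
    · change r J g (m β T ((wE f (Ga X) T).symm (sig f p x h y))) = m β T' ((wE f (Ga X) T').symm
        (sig f p x (g ≫ h) (r (Ga X) g y)))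
      rw [← m_r]
      congr 1
      apply (wE f (Ga X) T').injective
      rw [wE_r, AddEquiv.apply_symm_apply, AddEquiv.apply_symm_apply, r_sig]
    · refine ev_ext fun T h y => ?_
      rw [ev_map_right, ev_ofHom, ev_mk]
      change m d T (m β T ((wE f (Ga X) T).symm (sig f p x h y))) = m φ T y
      rw [← m_comp, ← hφ, m_comp, psi_sig]

end phi

end K230.PsiSurj
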